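import Mathlib

/-!
# A lemma on mates (helper5)
-/
set_option autoImplicit false
open CategoryTheory

namespace Groth.Agent.Lib.Helper5.BC

variable {C D E F : Type*} [Category C] [Category D] [Category E] [Category F]
  {G : C ⥤ E} {H : D ⥤ F} {L₁ : C ⥤ D} {R₁ : D ⥤ C} {L₂ : E ⥤ F} {R₂ : F ⥤ E}

/-- the adjunct of a component of the mate -/
lemma homEquiv_symm_mateEquiv_app (adj₁ : L₁ ⊣ R₁) (adj₂ : L₂ ⊣ R₂) (α : TwoSquare G L₁ L₂ H)
    (X : D) :
    (adj₂.homEquiv (G.obj (R₁.obj X)) (H.obj X)).symm ((mateEquiv adj₁ adj₂ α).app X) =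
      α.app (R₁.obj X) ≫ H.map (adj₁.counit.app X) := by
  simp [mateEquiv, Adjunction.homEquiv_counit]

/-- the components of the mate -/
lemma mateEquiv_app' (adj₁ : L₁ ⊣ R₁) (adj₂ : L₂ ⊣ R₂) (α : TwoSquare G L₁ L₂ H) (X : D) :
    (mateEquiv adj₁ adj₂ α).app X =
      adj₂.unit.app (G.obj (R₁.obj X)) ≫ R₂.map (α.app (R₁.obj X)) ≫
        R₂.map (H.map (adj₁.counit.app X)) := by
  simp [mateEquiv]

end Groth.Agent.Lib.Helper5.BC
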