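import Mathlib
import Groth.Prelude.Def_DCoh3
import Groth.Agent.Lib.Helper5.Stalk.LpullAdj

/-!
# The base change morphism for derived direct images (helper5)

For a commutative square `g' ≫ f = f' ≫ g` of schemes we define the canonical isomorphism
`β : Lg^* ⋙ Lf'^* ≅ Lf^* ⋙ Lg'^*` and the base change transformation
`θ : Rf_* ⋙ Lg^* ⟶ Lg'^* ⋙ Rf'_*` as its mate.  We show that the prelude's
`DCoh.baseChangeApp` agrees with `θ` for a suitable identification `e`, whatever the
adjunctions for `g` and `g'`.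
-/
set_option autoImplicit false
set_option linter.unusedSectionVars false
set_option linter.unusedVariables false
set_option linter.style.haveILetI false
universe u
open CategoryTheory CategoryTheory.Limits AlgebraicGeometry
attribute [local instance] HasDerivedCategory.standard

namespace Groth.Agent.Lib.Helper5.BC

open Groth.Agent.Lib.Helper5.LpullLib Groth.Agent.Helper3.KInjDer

/-- all derived pullbacks exist -/
instance instHasLpull {X Y : Scheme.{u}} (f : X ⟶ Y) : DCoh.HasLpull f := hasLpull f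

/-- all derived direct images exist -/
instance instHasRpush {X Y : Scheme.{u}} (f : X ⟶ Y) : DCoh.HasRpush f :=
  hasRightDerivedFunctor (DCoh.pushKh f)

/-- the canonical adjunction `Lf^* ⊣ Rf_*` -/
noncomputable abbrev adjL {X Y : Scheme.{u}} (f : X ⟶ Y) : DCoh.Lpull f ⊣ DCoh.Rpush f :=
  lpullRpushAdj f

/-- the composition isomorphism `Lg^* ⋙ Lf^* ≅ L(f ≫ g)^*` -/
noncomputable def cL {X Y Z : Scheme.{u}} (f : X ⟶ Y) (g : Y ⟶ Z) :
    DCoh.Lpull g ⋙ DCoh.Lpull f ≅ DCoh.Lpull (f ≫ g) :=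
  haveI := isIso_compLift f g
  asIso (compLift f g)

/-- congruence for `Lf^*` -/
noncomputable def lcongr {X Y : Scheme.{u}} {f f' : X ⟶ Y} (h : f = f') :
    DCoh.Lpull f ≅ DCoh.Lpull f' := by
  subst h
  exact Iso.refl _

@[simp] lemma lcongr_rfl {X Y : Scheme.{u}} (f : X ⟶ Y) : lcongr (rfl : f = f) = Iso.refl _ := rfl

section Square

variable {X Y X' Y' : Scheme.{u}} {f : X ⟶ Y} {g : Y' ⟶ Y} {f' : X' ⟶ Y'} {g' : X' ⟶ X}

/-- the canonical isomorphism `Lg^* ⋙ Lf'^* ≅ Lf^* ⋙ Lg'^*` of a commutative square -/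
noncomputable def beta (w : g' ≫ f = f' ≫ g) :
    DCoh.Lpull g ⋙ DCoh.Lpull f' ≅ DCoh.Lpull f ⋙ DCoh.Lpull g' :=
  cL f' g ≪≫ lcongr w.symm ≪≫ (cL g' f).symm

/-- the base change transformation `Lg^* Rf_* ⟶ Rf'_* Lg'^*` of a commutative square -/
noncomputable def theta (w : g' ≫ f = f' ≫ g) :
    DCoh.Rpush f ⋙ DCoh.Lpull g ⟶ DCoh.Lpull g' ⋙ DCoh.Rpush f' :=
  mateEquiv (adjL f) (adjL f') (beta w).hom

/-- the identification `Rg'_* ⋙ Rf_* ≅ Rf'_* ⋙ Rg_*` conjugate to `β` -/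
noncomputable def eConj (w : g' ≫ f = f' ≫ g) (adjg : DCoh.Lpull g ⊣ DCoh.Rpush g)
    (adjg' : DCoh.Lpull g' ⊣ DCoh.Rpush g') :
    DCoh.Rpush g' ⋙ DCoh.Rpush f ≅ DCoh.Rpush f' ⋙ DCoh.Rpush g :=
  conjugateIsoEquiv ((adjL f).comp adjg') (adjg.comp (adjL f')) (beta w)

/-- **the prelude's base change morphism is the mate `θ`** -/
theorem baseChangeApp_eq_theta (w : g' ≫ f = f' ≫ g) (adjg : DCoh.Lpull g ⊣ DCoh.Rpush g)
    (adjg' : DCoh.Lpull g' ⊣ DCoh.Rpush g') (E : DCoh.D X) :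
    DCoh.baseChangeApp adjg adjg' (eConj w adjg adjg') E = (theta w).app E := by
  have h := iterated_mateEquiv_conjugateEquiv (adjL f) (adjL f') adjg adjg' (beta w).hom
  have h2 : theta w = (mateEquiv adjg' adjg).symm (eConj w adjg adjg').hom := by
    apply (mateEquiv adjg' adjg).injective
    rw [Equiv.apply_symm_apply]
    exact h
  rw [h2]
  simp [DCoh.baseChangeApp, mateEquiv, Adjunction.homEquiv_counit]

end Square

end Groth.Agent.Lib.Helper5.BC
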