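import Mathlib
import Groth.Agent.Lib.Helper5.BC.Defs

/-!
# The cocycle identity for composition of derived pullbacks (helper5)
-/
set_option autoImplicit false
set_option linter.unusedSectionVars false
set_option linter.unusedVariables false
set_option linter.style.haveILetI false
universe u
open CategoryTheory CategoryTheory.Limits AlgebraicGeometry
attribute [local instance] HasDerivedCategory.standard

namespace Groth.Agent.Lib.Helper5.BC

open Groth.Agent.Lib.Helper5.LpullLib Groth.Agent.Helper3.KInjDer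
  Groth.Agent.Lib.Helper5.KProj.DerHo Groth.Agent.Lib.Helper5.Misc.KFlatSite
  Groth.Agent.Lib.Helper5.KFlatSiteQ Groth.Agent.Lib.Helper5.StalkAdj

/-- `f^*` on homotopy categories -/
noncomputable abbrev pullK {X Y : Scheme.{u}} (f : X ⟶ Y) :
    HomotopyCategory Y.Modules (ComplexShape.up ℤ) ⥤
      HomotopyCategory X.Modules (ComplexShape.up ℤ) :=
  (Scheme.Modules.pullback f).mapHomotopyCategory (ComplexShape.up ℤ)

/-- the comparison `Lf^* (Q P) ⟶ Q (f^* P)` -/
noncomputable abbrev kap {X Y : Scheme.{u}} (f : X ⟶ Y)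
    (P : HomotopyCategory Y.Modules (ComplexShape.up ℤ)) :
    (DCoh.Lpull f).obj (DerivedCategory.Qh.obj P) ⟶ DerivedCategory.Qh.obj ((pullK f).obj P) :=
  (lpullCounit f).app P

lemma kap_naturality {X Y : Scheme.{u}} (f : X ⟶ Y)
    {P P' : HomotopyCategory Y.Modules (ComplexShape.up ℤ)} (φ : P ⟶ P') :
    (DCoh.Lpull f).map (DerivedCategory.Qh.map φ) ≫ kap f P' =
      kap f P ≫ DerivedCategory.Qh.map ((pullK f).map φ) :=
  (lpullCounit f).naturality φ

theorem isIso_kap {X Y : Scheme.{u}} (f : X ⟶ Y) (P : CochainComplex Y.Modules ℤ)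
    (hP : Cell Y.sheaf P) :
    IsIso (kap f ((HomotopyCategory.quotient Y.Modules (ComplexShape.up ℤ)).obj P)) :=
  isIso_counit_app (adaptedCell f) (DCoh.Lpull f) (lpullCounit f) P hP

section Flexible

variable {X₀ X₁ X₂ X₃ : Scheme.{u}}

/-- flexible module-level composition isomorphism -/
noncomputable def pc' (a : X₀ ⟶ X₁) (b : X₁ ⟶ X₂) (ab : X₀ ⟶ X₂) (h : a ≫ b = ab) :
    Scheme.Modules.pullback b ⋙ Scheme.Modules.pullback a ≅ Scheme.Modules.pullback ab :=
  Scheme.Modules.pullbackComp a b ≪≫ Scheme.Modules.pullbackCongr h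

/-- flexible composition isomorphism on homotopy categories -/
noncomputable def pcK' (a : X₀ ⟶ X₁) (b : X₁ ⟶ X₂) (ab : X₀ ⟶ X₂) (h : a ≫ b = ab) :
    pullK b ⋙ pullK a ≅ pullK ab :=
  Functor.mapHomotopyCategoryCompIso (pc' a b ab h) (ComplexShape.up ℤ)

/-- flexible derived composition isomorphism -/
noncomputable def cL' (a : X₀ ⟶ X₁) (b : X₁ ⟶ X₂) (ab : X₀ ⟶ X₂) (h : a ≫ b = ab) :
    DCoh.Lpull b ⋙ DCoh.Lpull a ≅ DCoh.Lpull ab :=
  cL a b ≪≫ lcongr h

lemma pcK'_hom_app_quotient (a : X₀ ⟶ X₁) (b : X₁ ⟶ X₂) (ab : X₀ ⟶ X₂) (h : a ≫ b = ab)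
    (P : CochainComplex X₂.Modules ℤ) :
    (pcK' a b ab h).hom.app ((HomotopyCategory.quotient X₂.Modules (ComplexShape.up ℤ)).obj P) =
      (HomotopyCategory.quotient X₀.Modules (ComplexShape.up ℤ)).map
        ((Functor.mapHomologicalComplexCompIso (pc' a b ab h) (ComplexShape.up ℤ)).hom.app P) :=
  rfl

/-- the derived composition isomorphism is computed by the module-level one -/
theorem cL'_kap (a : X₀ ⟶ X₁) (b : X₁ ⟶ X₂) (ab : X₀ ⟶ X₂) (h : a ≫ b = ab)
    (P : HomotopyCategory X₂.Modules (ComplexShape.up ℤ)) :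
    (cL' a b ab h).hom.app (DerivedCategory.Qh.obj P) ≫ kap ab P =
      (DCoh.Lpull a).map (kap b P) ≫ kap a ((pullK b).obj P) ≫
        DerivedCategory.Qh.map ((pcK' a b ab h).hom.app P) := by
  subst h
  have hfac := (DCoh.Lpull (a ≫ b)).leftDerived_fac_app (lpullCounit (a ≫ b))
    (HomotopyCategory.quasiIso X₂.Modules (ComplexShape.up ℤ)) _ (compCounit a b) P
  have h1 : (cL' a b (a ≫ b) rfl).hom = compLift a b := by
    simp [cL', cL]
  rw [h1]
  refine hfac.trans ?_
  dsimp only [compCounit, NatTrans.comp_app, Functor.associator_inv_app,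
    Functor.associator_hom_app, Functor.whiskerRight_app, Functor.whiskerLeft_app]
  simp only [Category.id_comp]
  have h2 : pcK' a b (a ≫ b) rfl =
      Functor.mapHomotopyCategoryCompIso (Scheme.Modules.pullbackComp a b) (ComplexShape.up ℤ) := by
    simp [pcK', pc', Scheme.Modules.pullbackCongr]
  rw [h2]

theorem pc'_cocycle (a : X₀ ⟶ X₁) (b : X₁ ⟶ X₂) (c : X₂ ⟶ X₃) (ab : X₀ ⟶ X₂) (bc : X₁ ⟶ X₃)
    (abc : X₀ ⟶ X₃) (hab : a ≫ b = ab) (hbc : b ≫ c = bc) (habc : ab ≫ c = abc)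
    (habc' : a ≫ bc = abc) (M : X₃.Modules) :
    (pc' a b ab hab).hom.app ((Scheme.Modules.pullback c).obj M) ≫ (pc' ab c abc habc).hom.app M =
      (Scheme.Modules.pullback a).map ((pc' b c bc hbc).hom.app M) ≫
        (pc' a bc abc habc').hom.app M := by
  subst hab hbc habc
  have h := congrArg (fun t => t.app M) (Scheme.Modules.pseudofunctor_associativity a b c)
  simp only [NatTrans.comp_app, Functor.whiskerRight_app, Functor.associator_hom_app,
    Functor.whiskerLeft_app, Category.id_comp] at h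
  simp only [pc', Iso.trans_hom, NatTrans.comp_app, Scheme.Modules.pullbackCongr, eqToIso_refl,
    Iso.refl_hom, Category.comp_id, eqToIso.hom]
  rw [← h]
  simp

theorem pcK'_cocycle (a : X₀ ⟶ X₁) (b : X₁ ⟶ X₂) (c : X₂ ⟶ X₃) (ab : X₀ ⟶ X₂) (bc : X₁ ⟶ X₃)
    (abc : X₀ ⟶ X₃) (hab : a ≫ b = ab) (hbc : b ≫ c = bc) (habc : ab ≫ c = abc)
    (habc' : a ≫ bc = abc) (P : HomotopyCategory X₃.Modules (ComplexShape.up ℤ)) :
    (pcK' a b ab hab).hom.app ((pullK c).obj P) ≫ (pcK' ab c abc habc).hom.app P =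
      (pullK a).map ((pcK' b c bc hbc).hom.app P) ≫ (pcK' a bc abc habc').hom.app P := by
  obtain ⟨P⟩ := P
  change (HomotopyCategory.quotient X₀.Modules (ComplexShape.up ℤ)).map _ ≫
    (HomotopyCategory.quotient X₀.Modules (ComplexShape.up ℤ)).map _ =
    (pullK a).map ((HomotopyCategory.quotient X₁.Modules (ComplexShape.up ℤ)).map _) ≫
    (HomotopyCategory.quotient X₀.Modules (ComplexShape.up ℤ)).map _
  rw [Functor.mapHomotopyCategory_map]
  refine ((HomotopyCategory.quotient X₀.Modules (ComplexShape.up ℤ)).map_comp _ _).symm.trans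
    (Eq.trans ?_ ((HomotopyCategory.quotient X₀.Modules (ComplexShape.up ℤ)).map_comp _ _))
  congr 1
  refine HomologicalComplex.hom_ext _ _ (fun i => ?_)
  simp only [HomologicalComplex.comp_f]
  exact pc'_cocycle a b c ab bc abc hab hbc habc habc' (P.X i)

/-- natural transformations out of `D(O_Y)` are determined by their values on cellular
complexes -/
theorem natTrans_ext_cell {Y : Scheme.{u}} {𝒟 : Type*} [Category 𝒟] {F G : DCoh.D Y ⥤ 𝒟}
    (T₁ T₂ : F ⟶ G)
    (h : ∀ (P : CochainComplex Y.Modules ℤ), Cell Y.sheaf P →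
      T₁.app (DerivedCategory.Qh.obj
        ((HomotopyCategory.quotient Y.Modules (ComplexShape.up ℤ)).obj P)) =
      T₂.app (DerivedCategory.Qh.obj
        ((HomotopyCategory.quotient Y.Modules (ComplexShape.up ℤ)).obj P))) : T₁ = T₂ := by
  ext E
  obtain ⟨P, hP, ⟨e⟩⟩ := exists_cell_repr E
  have h1 : ∀ T : F ⟶ G, T.app E = F.map e.inv ≫ T.app (DerivedCategory.Q.obj P) ≫ G.map e.hom := by
    intro T
    rw [T.naturality_assoc, ← G.map_comp, e.inv_hom_id, G.map_id, Category.comp_id]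
  rw [h1 T₁, h1 T₂]
  congr 2
  exact h P hP

theorem cL'_cocycle_Qh (a : X₀ ⟶ X₁) (b : X₁ ⟶ X₂) (c : X₂ ⟶ X₃) (ab : X₀ ⟶ X₂) (bc : X₁ ⟶ X₃)
    (abc : X₀ ⟶ X₃) (hab : a ≫ b = ab) (hbc : b ≫ c = bc) (habc : ab ≫ c = abc)
    (habc' : a ≫ bc = abc) (P : HomotopyCategory X₃.Modules (ComplexShape.up ℤ)) :
    ((cL' a b ab hab).hom.app ((DCoh.Lpull c).obj (DerivedCategory.Qh.obj P)) ≫
        (cL' ab c abc habc).hom.app (DerivedCategory.Qh.obj P)) ≫ kap abc P =
      ((DCoh.Lpull a).map ((cL' b c bc hbc).hom.app (DerivedCategory.Qh.obj P)) ≫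
        (cL' a bc abc habc').hom.app (DerivedCategory.Qh.obj P)) ≫ kap abc P := by
  have hL : ((cL' a b ab hab).hom.app ((DCoh.Lpull c).obj (DerivedCategory.Qh.obj P)) ≫
        (cL' ab c abc habc).hom.app (DerivedCategory.Qh.obj P)) ≫ kap abc P =
      (DCoh.Lpull a).map ((DCoh.Lpull b).map (kap c P)) ≫
        (DCoh.Lpull a).map (kap b ((pullK c).obj P)) ≫ kap a ((pullK b).obj ((pullK c).obj P)) ≫
        DerivedCategory.Qh.map ((pcK' a b ab hab).hom.app ((pullK c).obj P) ≫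
          (pcK' ab c abc habc).hom.app P) := by
    rw [Category.assoc, cL'_kap ab c abc habc P]
    have hn := (cL' a b ab hab).hom.naturality (kap c P)
    rw [← Category.assoc, ← Category.assoc]
    erw [← hn]
    rw [Category.assoc, Category.assoc]
    rw [← Category.assoc ((cL' a b ab hab).hom.app _)]
    erw [cL'_kap a b ab hab ((pullK c).obj P)]
    simp only [Functor.comp_map, Category.assoc, Functor.map_comp]
  have hR : ((DCoh.Lpull a).map ((cL' b c bc hbc).hom.app (DerivedCategory.Qh.obj P)) ≫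
        (cL' a bc abc habc').hom.app (DerivedCategory.Qh.obj P)) ≫ kap abc P =
      (DCoh.Lpull a).map ((DCoh.Lpull b).map (kap c P)) ≫
        (DCoh.Lpull a).map (kap b ((pullK c).obj P)) ≫ kap a ((pullK b).obj ((pullK c).obj P)) ≫
        DerivedCategory.Qh.map ((pullK a).map ((pcK' b c bc hbc).hom.app P) ≫
          (pcK' a bc abc habc').hom.app P) := by
    rw [Category.assoc, cL'_kap a bc abc habc' P, ← Category.assoc, ← Functor.map_comp,
      cL'_kap b c bc hbc P]
    simp only [Functor.map_comp, Category.assoc]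
    rw [← Category.assoc ((DCoh.Lpull a).map (DerivedCategory.Qh.map _))]
    erw [kap_naturality a ((pcK' b c bc hbc).hom.app P)]
    simp only [Category.assoc]
    rfl
  rw [hL, hR, pcK'_cocycle a b c ab bc abc hab hbc habc habc' P]

/-- **the cocycle identity** for the composition isomorphisms of derived pullbacks -/
theorem cL'_cocycle (a : X₀ ⟶ X₁) (b : X₁ ⟶ X₂) (c : X₂ ⟶ X₃) (ab : X₀ ⟶ X₂) (bc : X₁ ⟶ X₃)
    (abc : X₀ ⟶ X₃) (hab : a ≫ b = ab) (hbc : b ≫ c = bc) (habc : ab ≫ c = abc)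
    (habc' : a ≫ bc = abc) (E : DCoh.D X₃) :
    (cL' a b ab hab).hom.app ((DCoh.Lpull c).obj E) ≫ (cL' ab c abc habc).hom.app E =
      (DCoh.Lpull a).map ((cL' b c bc hbc).hom.app E) ≫ (cL' a bc abc habc').hom.app E := by
  let T₁ : DCoh.Lpull c ⋙ DCoh.Lpull b ⋙ DCoh.Lpull a ⟶ DCoh.Lpull abc :=
    Functor.whiskerLeft (DCoh.Lpull c) (cL' a b ab hab).hom ≫ (cL' ab c abc habc).hom
  let T₂ : DCoh.Lpull c ⋙ DCoh.Lpull b ⋙ DCoh.Lpull a ⟶ DCoh.Lpull abc :=
    (Functor.associator _ _ _).inv ≫ Functor.whiskerRight (cL' b c bc hbc).hom (DCoh.Lpull a) ≫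
      (cL' a bc abc habc').hom
  have h : T₁ = T₂ := natTrans_ext_cell T₁ T₂ (fun P hP => by
    haveI := isIso_kap abc P hP
    apply (cancel_mono (kap abc
      ((HomotopyCategory.quotient X₃.Modules (ComplexShape.up ℤ)).obj P))).1
    have := cL'_cocycle_Qh a b c ab bc abc hab hbc habc habc'
      ((HomotopyCategory.quotient X₃.Modules (ComplexShape.up ℤ)).obj P)
    simpa [T₁, T₂] using this)
  have h2 := congrArg (fun T => T.app E) h
  simpa [T₁, T₂] using h2

end Flexible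

end Groth.Agent.Lib.Helper5.BC
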