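import Mathlib
import Groth.Agent.Lib.Helper5.BC.Cocycle

/-!
# Pasting of the canonical isomorphisms `β` of commutative squares (helper5)
-/
set_option autoImplicit false
set_option linter.unusedSectionVars false
set_option linter.unusedVariables false
set_option linter.style.haveILetI false
universe u
open CategoryTheory CategoryTheory.Limits AlgebraicGeometry
attribute [local instance] HasDerivedCategory.standard

namespace Groth.Agent.Lib.Helper5.BC

open Groth.Agent.Lib.Helper5.LpullLib Groth.Agent.Helper3.KInjDer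

section Beta

variable {X Y X' Y' : Scheme.{u}} {f : X ⟶ Y} {g : Y' ⟶ Y} {f' : X' ⟶ Y'} {g' : X' ⟶ X}

lemma cL'_rfl {X₀ X₁ X₂ : Scheme.{u}} (a : X₀ ⟶ X₁) (b : X₁ ⟶ X₂) :
    cL' a b (a ≫ b) rfl = cL a b := by
  simp [cL']

/-- `β` through an arbitrary diagonal -/
lemma beta_hom_app (w : g' ≫ f = f' ≫ g) (d : X' ⟶ Y) (h₁ : f' ≫ g = d) (h₂ : g' ≫ f = d)
    (E : DCoh.D Y) :
    (beta w).hom.app E = (cL' f' g d h₁).hom.app E ≫ (cL' g' f d h₂).inv.app E := by
  subst h₂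
  simp [beta, cL']

/-- the transposed square has the inverse `β` -/
lemma beta_symm (w : g' ≫ f = f' ≫ g) : beta w.symm = (beta w).symm := by
  ext E
  rw [beta_hom_app w.symm (g' ≫ f) rfl w.symm]
  have h := beta_hom_app w (g' ≫ f) w.symm rfl E
  change _ = (beta w).inv.app E
  rw [← cancel_epi ((beta w).hom.app E), Iso.hom_inv_id_app, h]
  simp

end Beta

section HPaste

variable {X Y X' Y' X'' Y'' : Scheme.{u}} {f : X ⟶ Y} {g : Y' ⟶ Y} {f' : X' ⟶ Y'} {g' : X' ⟶ X}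
  {u : Y'' ⟶ Y'} {f'' : X'' ⟶ Y''} {u' : X'' ⟶ X'}

/-- **horizontal pasting of `β`** -/
theorem beta_hpaste (w : g' ≫ f = f' ≫ g) (w' : u' ≫ f' = f'' ≫ u)
    (W : (u' ≫ g') ≫ f = f'' ≫ (u ≫ g)) (E : DCoh.D Y) :
    (beta W).hom.app E =
      (DCoh.Lpull f'').map ((cL u g).inv.app E) ≫ (beta w').hom.app ((DCoh.Lpull g).obj E) ≫
        (DCoh.Lpull u').map ((beta w).hom.app E) ≫ (cL u' g').hom.app ((DCoh.Lpull f).obj E) := by
  -- the diagonals
  let d : X' ⟶ Y := g' ≫ f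
  let d' : X'' ⟶ Y' := u' ≫ f'
  let D : X'' ⟶ Y := (u' ≫ g') ≫ f
  have hd₁ : f' ≫ g = d := w.symm
  have hd'₁ : f'' ≫ u = d' := w'.symm
  have hD₁ : f'' ≫ (u ≫ g) = D := W.symm
  have hD₂ : d' ≫ g = D := by
    simp only [d', D, Category.assoc]
    rw [← w]
  have hD₃ : u' ≫ d = D := by
    simp only [d, D, Category.assoc]
  -- the three cocycles
  have c1 := cL'_cocycle f'' u g d' (u ≫ g) D hd'₁ rfl hD₂ hD₁ E
  have c2 := cL'_cocycle u' f' g d' d D rfl hd₁ hD₂ hD₃ E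
  have c3 := cL'_cocycle u' g' f (u' ≫ g') d D rfl rfl rfl hD₃ E
  rw [beta_hom_app W D hD₁ rfl, beta_hom_app w' d' hd'₁ rfl, beta_hom_app w d hd₁ rfl]
  rw [cL'_rfl] at c1 c3
  -- cancel the final isomorphism
  rw [← cancel_mono ((cL' (u' ≫ g') f D rfl).hom.app E)]
  simp only [Category.assoc, Iso.inv_hom_id_app, Category.comp_id, Functor.map_comp]
  rw [c3]
  rw [← Category.assoc ((DCoh.Lpull u').map ((cL' g' f d rfl).inv.app E)),
    ← Functor.map_comp, Iso.inv_hom_id_app]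
  simp only [Functor.comp_obj, CategoryTheory.Functor.map_id, Category.id_comp]
  rw [← c2]
  rw [Iso.inv_hom_id_app_assoc]
  rw [c1, ← Category.assoc, ← Functor.map_comp, Iso.inv_hom_id_app]
  simp

end HPaste


section VPaste

variable {X Y X' Y' W W' : Scheme.{u}} {f : X ⟶ Y} {g : Y' ⟶ Y} {f' : X' ⟶ Y'} {g' : X' ⟶ X}
  {h : W ⟶ X} {h' : W' ⟶ X'} {g'' : W' ⟶ W}

/-- **vertical pasting of `β`** -/
theorem beta_vpaste (w : g' ≫ f = f' ≫ g) (w₂ : g'' ≫ h = h' ≫ g')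
    (W₂ : g'' ≫ (h ≫ f) = (h' ≫ f') ≫ g) (E : DCoh.D Y) :
    (beta W₂).hom.app E =
      (cL h' f').inv.app ((DCoh.Lpull g).obj E) ≫ (DCoh.Lpull h').map ((beta w).hom.app E) ≫
        (beta w₂).hom.app ((DCoh.Lpull f).obj E) ≫ (DCoh.Lpull g'').map ((cL h f).hom.app E) := by
  have hp := beta_hpaste (f := g) (g := f) (f' := g') (g' := f') (u := h) (f'' := g'') (u' := h')
    w.symm w₂.symm W₂.symm E
  rw [beta_symm W₂, beta_symm w, beta_symm w₂] at hp
  -- invert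
  have hp' : (beta W₂).inv.app E =
      (DCoh.Lpull g'').map ((cL h f).inv.app E) ≫
        (beta w₂).inv.app ((DCoh.Lpull f).obj E) ≫
          (DCoh.Lpull h').map ((beta w).inv.app E) ≫ (cL h' f').hom.app ((DCoh.Lpull g).obj E) := hp
  rw [← cancel_mono ((beta W₂).inv.app E), Iso.hom_inv_id_app, hp']
  simp only [Category.assoc]
  have e1 : (DCoh.Lpull g'').map ((cL h f).hom.app E) ≫ (DCoh.Lpull g'').map ((cL h f).inv.app E) =
      𝟙 _ := by
    rw [← Functor.map_comp, Iso.hom_inv_id_app]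
    exact CategoryTheory.Functor.map_id _ _
  have e2 : (DCoh.Lpull h').map ((beta w).hom.app E) ≫ (DCoh.Lpull h').map ((beta w).inv.app E) =
      𝟙 _ := by
    rw [← Functor.map_comp, Iso.hom_inv_id_app]
    exact CategoryTheory.Functor.map_id _ _
  rw [reassoc_of% e1, Iso.hom_inv_id_app_assoc, reassoc_of% e2, Iso.inv_hom_id_app]
  rfl

end VPaste

end Groth.Agent.Lib.Helper5.BC
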