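import Mathlib
import Groth.Agent.Lib.Helper5.BC.Paste

/-!
# Pasting of base change transformations (helper5)
-/
set_option autoImplicit false
set_option linter.unusedSectionVars false
set_option linter.unusedVariables false
set_option linter.style.haveILetI false
universe u
open CategoryTheory CategoryTheory.Limits AlgebraicGeometry
attribute [local instance] HasDerivedCategory.standard

namespace Groth.Agent.Lib.Helper5.BC

open Groth.Agent.Lib.Helper5.LpullLib Groth.Agent.Helper3.KInjDer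
open TwoSquare

section Basic

variable {X Y X' Y' : Scheme.{u}} {f : X ⟶ Y} {g : Y' ⟶ Y} {f' : X' ⟶ Y'} {g' : X' ⟶ X}

/-- the components of the base change transformation -/
lemma theta_app (w : g' ≫ f = f' ≫ g) (E : DCoh.D X) :
    (theta w).app E = (adjL f').unit.app ((DCoh.Lpull g).obj ((DCoh.Rpush f).obj E)) ≫
      (DCoh.Rpush f').map ((beta w).hom.app ((DCoh.Rpush f).obj E)) ≫
      (DCoh.Rpush f').map ((DCoh.Lpull g').map ((adjL f).counit.app E)) := by
  simp [theta, mateEquiv]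

end Basic

section HPaste

variable {X Y X' Y' X'' Y'' : Scheme.{u}} {f : X ⟶ Y} {g : Y' ⟶ Y} {f' : X' ⟶ Y'} {g' : X' ⟶ X}
  {u : Y'' ⟶ Y'} {f'' : X'' ⟶ Y''} {u' : X'' ⟶ X'}

/-- **horizontal pasting of base change transformations** -/
theorem theta_hpaste (w : g' ≫ f = f' ≫ g) (w' : u' ≫ f' = f'' ≫ u)
    (W : (u' ≫ g') ≫ f = f'' ≫ (u ≫ g)) (E : DCoh.D X) :
    (theta W).app E =
      (cL u g).inv.app ((DCoh.Rpush f).obj E) ≫ (DCoh.Lpull u).map ((theta w).app E) ≫
        (theta w').app ((DCoh.Lpull g').obj E) ≫ (DCoh.Rpush f'').map ((cL u' g').hom.app E) := by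
  have hv := congrArg (fun t : TwoSquare (DCoh.Rpush f) (DCoh.Lpull g' ⋙ DCoh.Lpull u')
      (DCoh.Lpull g ⋙ DCoh.Lpull u) (DCoh.Rpush f'') => t.natTrans.app E)
    (mateEquiv_vcomp (adjL f) (adjL f') (adjL f'') (beta w).hom (beta w').hom)
  have hv' : (adjL f'').unit.app ((DCoh.Lpull u).obj ((DCoh.Lpull g).obj ((DCoh.Rpush f).obj E))) ≫
      (DCoh.Rpush f'').map ((beta w').hom.app ((DCoh.Lpull g).obj ((DCoh.Rpush f).obj E)) ≫
        (DCoh.Lpull u').map ((beta w).hom.app ((DCoh.Rpush f).obj E))) ≫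
      (DCoh.Rpush f'').map ((DCoh.Lpull u').map ((DCoh.Lpull g').map ((adjL f).counit.app E))) =
      (DCoh.Lpull u).map ((theta w).app E) ≫ (theta w').app ((DCoh.Lpull g').obj E) := by
    simpa [mateEquiv, theta, hComp, vComp] using hv
  rw [theta_app W, beta_hpaste w w' W]
  simp only [Functor.map_comp, Category.assoc]
  -- move `c⁻¹` through the unit
  have h1 := (adjL f'').unit.naturality ((cL u g).inv.app ((DCoh.Rpush f).obj E))
  simp only [Functor.id_obj, Functor.id_map, Functor.comp_obj, Functor.comp_map] at h1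
  rw [← Category.assoc ((adjL f'').unit.app _), ← h1]
  -- move `c'` through the counit
  have h2 := (cL u' g').hom.naturality ((adjL f).counit.app E)
  simp only [Functor.id_obj, Functor.comp_obj, Functor.comp_map] at h2
  rw [← (DCoh.Rpush f'').map_comp ((cL u' g').hom.app _), ← h2, Functor.map_comp]
  simp only [Category.assoc]
  rw [← Category.assoc ((DCoh.Lpull u).map ((theta w).app E)), ← hv']
  simp only [Functor.map_comp, Category.assoc]

end HPaste


section VPaste

variable {X Y X' Y' W W' : Scheme.{u}} {f : X ⟶ Y} {g : Y' ⟶ Y} {f' : X' ⟶ Y'} {g' : X' ⟶ X}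
  {h : W ⟶ X} {h' : W' ⟶ X'} {g'' : W' ⟶ W}

/-- the composition isomorphism `R(h ≫ f)_* ≅ Rh_* ⋙ Rf_*`, conjugate to `cL` -/
noncomputable def rC {X Y W : Scheme.{u}} (h : W ⟶ X) (f : X ⟶ Y) :
    DCoh.Rpush (h ≫ f) ≅ DCoh.Rpush h ⋙ DCoh.Rpush f :=
  conjugateIsoEquiv (adjL (h ≫ f)) ((adjL f).comp (adjL h)) (cL h f)

/-- **vertical pasting of base change transformations** -/
theorem theta_vpaste (w : g' ≫ f = f' ≫ g) (w₂ : g'' ≫ h = h' ≫ g')
    (W₂ : g'' ≫ (h ≫ f) = (h' ≫ f') ≫ g) (E : DCoh.D W) :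
    (theta W₂).app E =
      (DCoh.Lpull g).map ((rC h f).hom.app E) ≫ (theta w).app ((DCoh.Rpush h).obj E) ≫
        (DCoh.Rpush f').map ((theta w₂).app E) ≫ (rC h' f').inv.app ((DCoh.Lpull g'').obj E) := by
  let γt : TwoSquare (DCoh.Lpull g) (DCoh.Lpull f ⋙ DCoh.Lpull h) (DCoh.Lpull f' ⋙ DCoh.Lpull h')
      (DCoh.Lpull g'') := (beta w).hom ≫ᵥ (beta w₂).hom
  have hA : (beta W₂).hom = ((γt.whiskerRight (cL h' f').inv).whiskerLeft (cL h f).hom).natTrans := by
    ext E'
    simp only [γt, TwoSquare.whiskerLeft, TwoSquare.whiskerRight, vComp, NatTrans.comp_app,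
      Functor.whiskerLeft_app, Functor.whiskerRight_app, Functor.associator_inv_app,
      Functor.associator_hom_app, Category.id_comp, Category.comp_id, Category.assoc]
    exact beta_vpaste w w₂ W₂ E'
  have h1 := conjugateEquiv_mateEquiv_vcomp (adjL (h ≫ f)) ((adjL f).comp (adjL h))
    (adjL (h' ≫ f')) (cL h f).hom (γt.whiskerRight (cL h' f').inv)
  have h2 := mateEquiv_conjugateEquiv_vcomp ((adjL f).comp (adjL h)) ((adjL f').comp (adjL h'))
    (adjL (h' ≫ f')) γt (cL h' f').inv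
  have h3 := mateEquiv_hcomp (adjL f) (adjL f') (adjL h) (adjL h') (beta w).hom (beta w₂).hom
  have key : theta W₂ = (((theta w₂ ≫ₕ theta w).whiskerBottom (rC h' f').inv).whiskerTop
      (rC h f).hom).natTrans := by
    change mateEquiv (adjL (h ≫ f)) (adjL (h' ≫ f')) (beta W₂).hom = _
    rw [hA]
    erw [h1, h2, h3]
    rfl
  rw [key]
  simp [TwoSquare.whiskerTop, TwoSquare.whiskerBottom, hComp]

end VPaste

end Groth.Agent.Lib.Helper5.BC
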