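import Mathlib
import Groth.Agent.Lib.Helper5.BC.ThetaPaste
import Groth.Agent.Lib.Helper5.BC.MateLem
import Groth.Agent.Lib.Helper5.RGamPush.HomKD

/-!
# The derived base change map in terms of the base change map of complexes (helper5)
-/
set_option autoImplicit false
set_option linter.unusedSectionVars false
set_option linter.unusedVariables false
set_option linter.style.haveILetI false
universe u
open CategoryTheory CategoryTheory.Limits AlgebraicGeometry
attribute [local instance] HasDerivedCategory.standard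

namespace Groth.Agent.Lib.Helper5.BC

open Groth.Agent.Lib.Helper5.LpullLib Groth.Agent.Helper3.KInjDer

variable {X Y X' Y' : Scheme.{u}} {f : X ⟶ Y} {g : Y' ⟶ Y} {f' : X' ⟶ Y'} {g' : X' ⟶ X}

/-- `f_*` on homotopy categories -/
noncomputable abbrev pushK {X Y : Scheme.{u}} (f : X ⟶ Y) :
    HomotopyCategory X.Modules (ComplexShape.up ℤ) ⥤
      HomotopyCategory Y.Modules (ComplexShape.up ℤ) :=
  (Scheme.Modules.pushforward f).mapHomotopyCategory (ComplexShape.up ℤ)

/-- the comparison `Q (f_* U) ⟶ Rf_* (Q U)` -/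
noncomputable abbrev rho {X Y : Scheme.{u}} (f : X ⟶ Y)
    (U : HomotopyCategory X.Modules (ComplexShape.up ℤ)) :
    DerivedCategory.Qh.obj ((pushK f).obj U) ⟶ (DCoh.Rpush f).obj (DerivedCategory.Qh.obj U) :=
  (rpushUnit f).app U

/-- the isomorphism `f'^* g^* ≅ g'^* f^*` on homotopy categories -/
noncomputable def betaK (w : g' ≫ f = f' ≫ g) : pullK g ⋙ pullK f' ≅ pullK f ⋙ pullK g' :=
  pcK' f' g (f' ≫ g) rfl ≪≫ (pcK' g' f (f' ≫ g) w).symm

/-- the base change transformation on homotopy categories -/
noncomputable def bcK (w : g' ≫ f = f' ≫ g) : pushK f ⋙ pullK g ⟶ pullK g' ⋙ pushK f' :=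
  mateEquiv (adjK f) (adjK f') (betaK w).hom

/-- the derived `β` is computed by the one on homotopy categories -/
theorem beta_kap (w : g' ≫ f = f' ≫ g) (V : HomotopyCategory Y.Modules (ComplexShape.up ℤ)) :
    (beta w).hom.app (DerivedCategory.Qh.obj V) ≫ (DCoh.Lpull g').map (kap f V) ≫
        kap g' ((pullK f).obj V) =
      (DCoh.Lpull f').map (kap g V) ≫ kap f' ((pullK g).obj V) ≫
        DerivedCategory.Qh.map ((betaK w).hom.app V) := by
  have h1 := cL'_kap f' g (f' ≫ g) rfl V
  have h2 := cL'_kap g' f (f' ≫ g) w V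
  have h2' : (DCoh.Lpull g').map (kap f V) ≫ kap g' ((pullK f).obj V) =
      (cL' g' f (f' ≫ g) w).hom.app (DerivedCategory.Qh.obj V) ≫ kap (f' ≫ g) V ≫
        DerivedCategory.Qh.map ((pcK' g' f (f' ≫ g) w).inv.app V) := by
    rw [← Category.assoc, h2]
    simp only [Category.assoc]
    rw [← Functor.map_comp, Iso.hom_inv_id_app]
    erw [CategoryTheory.Functor.map_id]
    rw [Category.comp_id]
  rw [beta_hom_app w (f' ≫ g) rfl w, h2']
  simp only [Category.assoc, Iso.inv_hom_id_app_assoc]
  rw [← Category.assoc, h1]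
  simp only [Category.assoc, betaK, Iso.trans_hom, Iso.symm_hom, NatTrans.comp_app,
    Functor.map_comp]

/-- **the derived base change map on the image of a complex** -/
theorem theta_Qh (w : g' ≫ f = f' ≫ g) (U : HomotopyCategory X.Modules (ComplexShape.up ℤ)) :
    (DCoh.Lpull g).map (rho f U) ≫ (theta w).app (DerivedCategory.Qh.obj U) ≫
        (DCoh.Rpush f').map (kap g' U) =
      kap g ((pushK f).obj U) ≫ DerivedCategory.Qh.map ((bcK w).app U) ≫
        rho f' ((pullK g').obj U) := by
  apply ((adjL f').homEquiv _ _).symm.injective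
  rw [Adjunction.homEquiv_naturality_left_symm, Adjunction.homEquiv_naturality_right_symm,
    Adjunction.homEquiv_naturality_left_symm]
  have e1 : ((adjL f').homEquiv ((DCoh.Lpull g).obj ((DCoh.Rpush f).obj (DerivedCategory.Qh.obj U)))
      ((DCoh.Lpull g').obj (DerivedCategory.Qh.obj U))).symm
        ((theta w).app (DerivedCategory.Qh.obj U)) =
      (beta w).hom.app ((DCoh.Rpush f).obj (DerivedCategory.Qh.obj U)) ≫
        (DCoh.Lpull g').map ((adjL f).counit.app (DerivedCategory.Qh.obj U)) :=
    homEquiv_symm_mateEquiv_app (adjL f) (adjL f') (beta w).hom (DerivedCategory.Qh.obj U)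
  have e2 := Groth.Agent.Lib.Helper5.RGamPush.homEquiv_symm_Qh_map f' _ _ ((bcK w).app U)
  have e3 : ((adjK f').homEquiv _ _).symm ((bcK w).app U) =
      (betaK w).hom.app ((pushK f).obj U) ≫ (pullK g').map ((adjK f).counit.app U) :=
    homEquiv_symm_mateEquiv_app (adjK f) (adjK f') (betaK w).hom U
  have e4 := Groth.Agent.Lib.Helper5.RGamPush.homEquiv_symm_Qh_map f _ _ (𝟙 ((pushK f).obj U))
  rw [CategoryTheory.Functor.map_id, Category.id_comp, Adjunction.homEquiv_counit] at e4
  have e4' : ((adjK f).homEquiv ((pushK f).obj U) U).symm (𝟙 _) = (adjK f).counit.app U := by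
    rw [Adjunction.homEquiv_counit, CategoryTheory.Functor.map_id, Category.id_comp]
  rw [e4'] at e4
  rw [e1]
  erw [e2]
  rw [e3]
  have n1 := (beta w).hom.naturality (rho f U)
  have n2 : (DCoh.Lpull g').map (DerivedCategory.Qh.map ((adjK f).counit.app U)) ≫ kap g' U =
      kap g' ((pullK f).obj ((pushK f).obj U)) ≫
        DerivedCategory.Qh.map ((pullK g').map ((adjK f).counit.app U)) :=
    kap_naturality g' ((adjK f).counit.app U)
  have bk := beta_kap w ((pushK f).obj U)
  simp only [Functor.comp_map] at n1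
  calc (DCoh.Lpull f').map ((DCoh.Lpull g).map (rho f U)) ≫
        ((beta w).hom.app ((DCoh.Rpush f).obj (DerivedCategory.Qh.obj U)) ≫
          (DCoh.Lpull g').map ((adjL f).counit.app (DerivedCategory.Qh.obj U))) ≫ kap g' U
      = (beta w).hom.app (DerivedCategory.Qh.obj ((pushK f).obj U)) ≫
          (DCoh.Lpull g').map ((DCoh.Lpull f).map (rho f U) ≫
            (adjL f).counit.app (DerivedCategory.Qh.obj U)) ≫ kap g' U := by
        rw [Functor.map_comp]
        simp only [Category.assoc]
        rw [← Category.assoc, n1, Category.assoc]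
    _ = (beta w).hom.app (DerivedCategory.Qh.obj ((pushK f).obj U)) ≫
          (DCoh.Lpull g').map (kap f ((pushK f).obj U)) ≫
            kap g' ((pullK f).obj ((pushK f).obj U)) ≫
              DerivedCategory.Qh.map ((pullK g').map ((adjK f).counit.app U)) := by
        rw [e4, Functor.map_comp, Category.assoc, n2]
    _ = _ := by
        rw [← Category.assoc, ← Category.assoc, Category.assoc _ _ (kap g' _), bk]
        simp only [Category.assoc, Functor.map_comp]
        rfl

end Groth.Agent.Lib.Helper5.BC
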