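import Mathlib
import Groth.Agent.Lib.Helper5.BC.Star

/-!
# The base change map of complexes is computed termwise (helper5)
-/
set_option autoImplicit false
set_option linter.unusedSectionVars false
set_option linter.unusedVariables false
set_option linter.style.haveILetI false
universe u
open CategoryTheory CategoryTheory.Limits AlgebraicGeometry
attribute [local instance] HasDerivedCategory.standard

namespace Groth.Agent.Lib.Helper5.BC

open Groth.Agent.Lib.Helper5.LpullLib Groth.Agent.Helper3.KInjDer
open Groth.Agent.Helper3.AdjHtpyPlus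

variable {X Y X' Y' : Scheme.{u}} {f : X ⟶ Y} {g : Y' ⟶ Y} {f' : X' ⟶ Y'} {g' : X' ⟶ X}

/-- the isomorphism `f'^* g^* ≅ g'^* f^*` of modules -/
noncomputable def betaM (w : g' ≫ f = f' ≫ g) :
    Scheme.Modules.pullback g ⋙ Scheme.Modules.pullback f' ≅
      Scheme.Modules.pullback f ⋙ Scheme.Modules.pullback g' :=
  pc' f' g (f' ≫ g) rfl ≪≫ (pc' g' f (f' ≫ g) w).symm

/-- the base change transformation `g^* f_* ⟶ f'_* g'^*` of modules -/
noncomputable def bcM (w : g' ≫ f = f' ≫ g) :
    Scheme.Modules.pushforward f ⋙ Scheme.Modules.pullback g ⟶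
      Scheme.Modules.pullback g' ⋙ Scheme.Modules.pushforward f' :=
  mateEquiv (Scheme.Modules.pullbackPushforwardAdjunction f)
    (Scheme.Modules.pullbackPushforwardAdjunction f') (betaM w).hom

/-- the termwise base change map of complexes -/
noncomputable def bcC (w : g' ≫ f = f' ≫ g) (C : CochainComplex X.Modules ℤ) :
    ((Scheme.Modules.pullback g).mapHomologicalComplex (ComplexShape.up ℤ)).obj
      (((Scheme.Modules.pushforward f).mapHomologicalComplex (ComplexShape.up ℤ)).obj C) ⟶
    ((Scheme.Modules.pushforward f').mapHomologicalComplex (ComplexShape.up ℤ)).obj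
      (((Scheme.Modules.pullback g').mapHomologicalComplex (ComplexShape.up ℤ)).obj C) :=
  (NatTrans.mapHomologicalComplex (bcM w) (ComplexShape.up ℤ)).app C

@[simp] lemma bcC_f (w : g' ≫ f = f' ≫ g) (C : CochainComplex X.Modules ℤ) (n : ℤ) :
    (bcC w C).f n = (bcM w).app (C.X n) := rfl

/-- **the base change map on homotopy categories is computed termwise** -/
theorem bcK_app_quotient (w : g' ≫ f = f' ≫ g) (C : CochainComplex X.Modules ℤ) :
    (bcK w).app ((HomotopyCategory.quotient X.Modules (ComplexShape.up ℤ)).obj C) =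
      (HomotopyCategory.quotient Y'.Modules (ComplexShape.up ℤ)).map (bcC w C) := by
  rw [bcK, mateEquiv_app']
  let C1 := ((Scheme.Modules.pullback g).mapHomologicalComplex (ComplexShape.up ℤ)).obj
      (((Scheme.Modules.pushforward f).mapHomologicalComplex (ComplexShape.up ℤ)).obj C)
  let a1 : C1 ⟶ _ := unitC (Scheme.Modules.pullbackPushforwardAdjunction f') (ComplexShape.up ℤ) C1
  let a2 := ((Scheme.Modules.pushforward f').mapHomologicalComplex (ComplexShape.up ℤ)).map
    ((Functor.mapHomologicalComplexCompIso (pc' f' g (f' ≫ g) rfl) (ComplexShape.up ℤ)).hom.app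
      (((Scheme.Modules.pushforward f).mapHomologicalComplex (ComplexShape.up ℤ)).obj C) ≫
    (Functor.mapHomologicalComplexCompIso (pc' g' f (f' ≫ g) w) (ComplexShape.up ℤ)).inv.app
      (((Scheme.Modules.pushforward f).mapHomologicalComplex (ComplexShape.up ℤ)).obj C))
  let a3 := ((Scheme.Modules.pushforward f').mapHomologicalComplex (ComplexShape.up ℤ)).map
    (((Scheme.Modules.pullback g').mapHomologicalComplex (ComplexShape.up ℤ)).map
      (counitC (Scheme.Modules.pullbackPushforwardAdjunction f) (ComplexShape.up ℤ) C))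
  have key : bcC w C = a1 ≫ a2 ≫ a3 := by
    refine HomologicalComplex.hom_ext _ _ (fun n => ?_)
    rw [bcC_f, bcM, mateEquiv_app']
    simp only [a1, a2, a3, HomologicalComplex.comp_f, Functor.mapHomologicalComplex_map_f,
      Functor.mapHomologicalComplexCompIso_hom_app_f, Functor.mapHomologicalComplexCompIso_inv_app_f,
      unitC_f, counitC_f, betaM, Iso.trans_hom, Iso.symm_hom, NatTrans.comp_app]
    rfl
  rw [key, Functor.map_comp, Functor.map_comp]
  rfl

end Groth.Agent.Lib.Helper5.BC
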