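import Mathlib
import Groth.Agent.Lib.Helper5.BC.BcK
import Groth.Agent.Lib.Lead.BCU4

/-!
# The base change map of modules as a mate (helper5)

We identify the mate `bcM` with the base change map of `Lead.BCU`, which is an isomorphism
for affine morphisms and quasi-coherent modules.
-/
set_option autoImplicit false
set_option linter.unusedSectionVars false
set_option linter.unusedVariables false
set_option linter.style.haveILetI false
universe u
open CategoryTheory CategoryTheory.Limits AlgebraicGeometry
open Scheme.Modules

namespace Groth.Agent.Lib.Helper5.BC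

variable {X Y X' Y' : Scheme.{u}} {f : X ⟶ Y} {g : Y' ⟶ Y} {f' : X' ⟶ Y'} {g' : X' ⟶ X}

/-- the conjugate of `pullbackCongr` is `pushforwardCongr` -/
theorem conjugateEquiv_pullbackCongr_inv {X Y : Scheme.{u}} {f g : X ⟶ Y} (hf : f = g) :
    conjugateEquiv (pullbackPushforwardAdjunction f) (pullbackPushforwardAdjunction g)
      (pullbackCongr hf).inv = (pushforwardCongr hf).hom := by
  subst hf
  have h1 : (pullbackCongr (rfl : f = f)).inv = 𝟙 _ := rfl
  rw [h1, conjugateEquiv_id]
  ext M U
  simp

/-- the conjugate of `pullbackComp.hom` is `pushforwardComp.inv` -/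
theorem conjugateEquiv_pullbackComp_hom {X Y Z : Scheme.{u}} (a : X ⟶ Y) (b : Y ⟶ Z) :
    conjugateEquiv (pullbackPushforwardAdjunction (a ≫ b))
      ((pullbackPushforwardAdjunction b).comp (pullbackPushforwardAdjunction a))
      (pullbackComp a b).hom = (pushforwardComp a b).inv := by
  have h := conjugateEquiv_comp (pullbackPushforwardAdjunction (a ≫ b))
    ((pullbackPushforwardAdjunction b).comp (pullbackPushforwardAdjunction a))
    (pullbackPushforwardAdjunction (a ≫ b)) (pullbackComp a b).hom (pullbackComp a b).inv
  rw [Iso.inv_hom_id, conjugateEquiv_id, conjugateEquiv_pullbackComp_inv] at h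
  rw [← cancel_mono (pushforwardComp a b).hom, h, Iso.inv_hom_id]

/-- the identification `f_* g'_* ≅ g_* f'_*` -/
noncomputable def eM (w : g' ≫ f = f' ≫ g) :
    pushforward g' ⋙ pushforward f ≅ pushforward f' ⋙ pushforward g :=
  pushforwardComp g' f ≪≫ pushforwardCongr w ≪≫ (pushforwardComp f' g).symm

/-- the conjugate of `β` is the identification of pushforwards -/
theorem conjugateEquiv_betaM (w : g' ≫ f = f' ≫ g) :
    conjugateEquiv ((pullbackPushforwardAdjunction f).comp (pullbackPushforwardAdjunction g'))
      ((pullbackPushforwardAdjunction g).comp (pullbackPushforwardAdjunction f'))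
      (betaM w).hom = (eM w).hom := by
  have hβ : (betaM w).hom = (pullbackComp f' g).hom ≫ (pullbackCongr w).inv ≫
      (pullbackComp g' f).inv := by
    simp only [betaM, pc', Iso.trans_hom, Iso.symm_hom, Iso.trans_inv, Category.assoc]
    have h1 : (pullbackCongr (rfl : f' ≫ g = f' ≫ g)).hom = 𝟙 _ := rfl
    rw [h1, Category.id_comp]
  have k1 := conjugateEquiv_comp
    ((pullbackPushforwardAdjunction f).comp (pullbackPushforwardAdjunction g'))
    (pullbackPushforwardAdjunction (g' ≫ f))
    ((pullbackPushforwardAdjunction g).comp (pullbackPushforwardAdjunction f'))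
    (pullbackComp g' f).inv ((pullbackComp f' g).hom ≫ (pullbackCongr w).inv)
  have k2 := conjugateEquiv_comp (pullbackPushforwardAdjunction (g' ≫ f))
    (pullbackPushforwardAdjunction (f' ≫ g))
    ((pullbackPushforwardAdjunction g).comp (pullbackPushforwardAdjunction f'))
    (pullbackCongr w).inv (pullbackComp f' g).hom
  rw [hβ, ← Category.assoc, ← k1, ← k2, conjugateEquiv_pullbackComp_inv,
    conjugateEquiv_pullbackCongr_inv, conjugateEquiv_pullbackComp_hom]
  simp [eM]

/-- **the mate `bcM` is the base change map of `Lead.BCU`** -/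
theorem bcM_app_eq_bcMap (h : IsPullback g' f' f g) (M : X.Modules) :
    (bcM h.w).app M = Groth.Agent.Lead.BCU.bcMap f g g' f' h M := by
  have h1 := iterated_mateEquiv_conjugateEquiv (pullbackPushforwardAdjunction f)
    (pullbackPushforwardAdjunction f') (pullbackPushforwardAdjunction g)
    (pullbackPushforwardAdjunction g') (betaM h.w).hom
  have h2 : bcM h.w = (mateEquiv (pullbackPushforwardAdjunction g')
      (pullbackPushforwardAdjunction g)).symm (eM h.w).hom := by
    apply (mateEquiv (pullbackPushforwardAdjunction g') (pullbackPushforwardAdjunction g)).injective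
    rw [Equiv.apply_symm_apply, ← conjugateEquiv_betaM]
    exact h1
  rw [h2]
  simp [Groth.Agent.Lead.BCU.bcMap, Groth.Agent.Lead.BCU.vMap, mateEquiv,
    Adjunction.homEquiv_counit, eM]

/-- **affine base change for the mate** -/
theorem isIso_bcM_app (h : IsPullback g' f' f g) [IsAffineHom f] (M : X.Modules)
    [M.IsQuasicoherent] : IsIso ((bcM h.w).app M) := by
  rw [bcM_app_eq_bcMap h M]
  exact Groth.Agent.Lead.BCU.isIso_bcMap f g g' f' h M

end Groth.Agent.Lib.Helper5.BC
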