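import Mathlib
import Groth.Agent.Lib.Helper5.BC.ThetaPaste
import Groth.Agent.Lib.Helper5.CxOX.SuppAdj
import Groth.Agent.Lib.Helper5.RpushPerf.WTShift
import Groth.Agent.Lib.Helper5.QC.FpqcPC

/-!
# Base change along open immersions; locality of isomorphisms (helper5)
-/
set_option autoImplicit false
set_option linter.unusedSectionVars false
set_option linter.unusedVariables false
set_option linter.style.haveILetI false
universe u
open CategoryTheory CategoryTheory.Limits AlgebraicGeometry Pretriangulated TopologicalSpace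
attribute [local instance] HasDerivedCategory.standard

namespace Groth.Agent.Lib.Helper5.BC

open Groth.Agent.Lib.Helper5.LpullLib Groth.Agent.Helper3.KInjDer
  Groth.Agent.Lib.Helper5.ProjF3 Groth.Agent.Lib.Helper5.RpushPerf Groth.Agent.Lib.Helper5.BvdB
  Groth.Agent.Lib.Helper5.CxTri Groth.Agent.Lib.Helper5.RpushRes Groth.Agent.Lib.Helper5.MV
  Groth.Agent.Lib.Helper5.QC

/-- `Lj^* K` vanishes iff `K` vanishes on the image of the open immersion `j` -/
theorem isZero_lpull_iff_vanishOn {V X : Scheme.{u}} (j : V ⟶ X) [IsOpenImmersion j]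
    (K : DCoh.D X) :
    IsZero ((DCoh.Lpull j).obj K) ↔ VanishOn K (Set.range j.base) := by
  obtain ⟨e⟩ := Groth.Agent.Lib.Helper5.FpqcPC.nonempty_lpull_iso_restrictD j K
  constructor
  · intro h
    have h1 : VanishOn ((DCoh.restrictD j).obj K) Set.univ :=
      vanishOn_of_isZero (IsZero.of_iso h e.symm) _
    rw [vanishOn_restrictD_iff] at h1
    simpa using h1
  · intro h
    exact IsZero.of_iso (isZero_restrictD_of_vanishOn j K _ h subset_rfl) e

/-- a weakly triangulated functor sends a morphism with vanishing image of the cone to an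
isomorphism -/
theorem isIso_map_of_weakTri {C D : Type*} [Category C] [HasZeroObject C] [HasShift C ℤ]
    [Preadditive C] [∀ n : ℤ, (shiftFunctor C n).Additive] [Pretriangulated C]
    [Category D] [HasZeroObject D] [HasShift D ℤ] [Preadditive D]
    [∀ n : ℤ, (shiftFunctor D n).Additive] [Pretriangulated D]
    {F : C ⥤ D} (hF : WeakTri F) (T : Triangle C) (hT : T ∈ distTriang C) :
    IsIso (F.map T.mor₁) ↔ IsZero (F.obj T.obj₃) := by
  obtain ⟨c, hc⟩ := hF T hT
  exact (Triangle.isZero₃_iff_isIso₁ _ hc).symm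

/-- **isomorphisms are detected on an open cover** -/
theorem isIso_of_isIso_lpull_cover {Y : Scheme.{u}} {A B : DCoh.D Y} (φ : A ⟶ B)
    (h : ∀ y : Y, ∃ (U : Scheme.{u}) (j : U ⟶ Y) (_ : IsOpenImmersion j),
      y ∈ Set.range j.base ∧ IsIso ((DCoh.Lpull j).map φ)) : IsIso φ := by
  obtain ⟨C, π, δ, hT⟩ := distinguished_cocone_triangle φ
  have hC : VanishOn C Set.univ := by
    intro y _ n
    obtain ⟨U, j, hj, hy, hiso⟩ := h y
    have hz : IsZero ((DCoh.Lpull j).obj C) :=
      (isIso_map_of_weakTri (weakTri_lpull j) _ hT).1 hiso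
    exact (isZero_lpull_iff_vanishOn j C).1 hz y hy n
  exact (Triangle.isZero₃_iff_isIso₁ _ hT).1 (isZero_of_vanishOn_univ C hC)

/-- `Rf_* F` vanishes on `U` when `F` vanishes on `f⁻¹ U` -/
theorem vanishOn_rpush' {X Y : Scheme.{u}} (f : X ⟶ Y) (U : Y.Opens) (F : DCoh.D X)
    (hF : VanishOn F ((f ⁻¹ᵁ U : X.Opens) : Set X)) :
    VanishOn ((DCoh.Rpush f).obj F) (U : Set Y) := by
  rw [← isZero_restrictD_iff_vanishOn]
  have e := (rpushRestrictIso f U).app F
  have hz : IsZero ((DCoh.restrictD (f ⁻¹ᵁ U).ι).obj F) := by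
    rw [isZero_restrictD_iff_vanishOn]
    exact hF
  haveI := additive_rpush (f ∣_ U)
  exact IsZero.of_iso ((DCoh.Rpush (f ∣_ U)).map_isZero hz) e

section Square

variable {X Y X' Y' : Scheme.{u}} {f : X ⟶ Y} {g : Y' ⟶ Y} {f' : X' ⟶ Y'} {g' : X' ⟶ X}

theorem range_fst_of_isPullback (hsq : IsPullback g' f' f g) :
    Set.range g'.base = f.base ⁻¹' Set.range g.base := by
  have h1 : g' = hsq.isoPullback.hom ≫ pullback.fst f g := by simp
  have h2 := Scheme.Pullback.range_fst f g
  ext x
  constructor
  · rintro ⟨x', rfl⟩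
    obtain ⟨y, hy⟩ : (pullback.fst f g).base (hsq.isoPullback.hom.base x') ∈
        f.base ⁻¹' Set.range g.base := by
      rw [← h2]
      exact ⟨_, rfl⟩
    refine ⟨y, ?_⟩
    rw [hy]
    have h4 : (pullback.fst f g).base (hsq.isoPullback.hom.base x') = g'.base x' := by
      have := congrArg (fun t : X' ⟶ X => t.base x') h1
      exact this.symm
    rw [h4]
  · intro hx
    have hx' : x ∈ Set.range (pullback.fst f g).base := by
      rw [h2]
      exact hx
    obtain ⟨z, rfl⟩ := hx'
    refine ⟨hsq.isoPullback.inv.base z, ?_⟩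
    have h3 : hsq.isoPullback.inv ≫ g' = pullback.fst f g := by simp
    rw [← h3]
    rfl

/-- **base change along an open immersion** -/
theorem isIso_theta_of_isOpenImmersion (hsq : IsPullback g' f' f g) [IsOpenImmersion g]
    [IsOpenImmersion g'] (E : DCoh.D X) : IsIso ((theta hsq.w).app E) := by
  rw [← baseChangeApp_eq_theta hsq.w (adjL g) (adjL g') E]
  -- the counits are isomorphisms
  haveI : (DCoh.Rpush g).Full := ((resAdj g).fullyFaithfulROfIsIsoCounit).full
  haveI : (DCoh.Rpush g).Faithful := ((resAdj g).fullyFaithfulROfIsIsoCounit).faithful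
  haveI : (DCoh.Rpush g').Full := ((resAdj g').fullyFaithfulROfIsIsoCounit).full
  haveI : (DCoh.Rpush g').Faithful := ((resAdj g').fullyFaithfulROfIsIsoCounit).faithful
  haveI : IsIso (adjL g).counit := inferInstance
  haveI : IsIso (adjL g').counit := inferInstance
  -- the cone of the unit vanishes on `X'`
  obtain ⟨C, π, δ, hT⟩ := distinguished_cocone_triangle ((adjL g').unit.app E)
  haveI : IsIso ((DCoh.Lpull g').map ((adjL g').unit.app E)) := by
    have h := (adjL g').left_triangle_components E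
    have h2 : (DCoh.Lpull g').map ((adjL g').unit.app E) =
        inv ((adjL g').counit.app ((DCoh.Lpull g').obj E)) := IsIso.eq_inv_of_inv_hom_id h
    rw [h2]
    infer_instance
  have hz : IsZero ((DCoh.Lpull g').obj C) :=
    (isIso_map_of_weakTri (weakTri_lpull g') _ hT).1 (by
      change IsIso ((DCoh.Lpull g').map ((adjL g').unit.app E))
      infer_instance)
  have hC : VanishOn C (Set.range g'.base) := (isZero_lpull_iff_vanishOn g' C).1 hz
  have hC' : VanishOn C ((f ⁻¹ᵁ g.opensRange : X.Opens) : Set X) := by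
    refine hC.mono ?_
    rw [range_fst_of_isPullback hsq]
    intro x hx
    exact hx
  have hRC : VanishOn ((DCoh.Rpush f).obj C) (Set.range g.base) := by
    have := vanishOn_rpush' f g.opensRange C hC'
    rwa [Scheme.Hom.coe_opensRange] at this
  have hz2 : IsZero ((DCoh.Rpush f ⋙ DCoh.Lpull g).obj C) :=
    (isZero_lpull_iff_vanishOn g _).2 hRC
  haveI h3 : IsIso ((DCoh.Rpush f ⋙ DCoh.Lpull g).map ((adjL g').unit.app E)) :=
    (isIso_map_of_weakTri ((weakTri_rpush f).comp (weakTri_lpull g)) _ hT).2 hz2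
  haveI h4 : IsIso ((DCoh.Lpull g).map ((DCoh.Rpush f).map ((adjL g').unit.app E))) := h3
  -- conclude
  rw [DCoh.baseChangeApp, Adjunction.homEquiv_counit, Functor.map_comp]
  infer_instance

end Square

end Groth.Agent.Lib.Helper5.BC
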