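import Mathlib
import Groth.Agent.Lib.Helper5.BC.OpenImm

/-!
# The base change isomorphism is local on the base (helper5)
-/
set_option autoImplicit false
set_option linter.unusedSectionVars false
set_option linter.unusedVariables false
set_option linter.style.haveILetI false
universe u
open CategoryTheory CategoryTheory.Limits AlgebraicGeometry Pretriangulated TopologicalSpace
attribute [local instance] HasDerivedCategory.standard

namespace Groth.Agent.Lib.Helper5.BC

open Groth.Agent.Lib.Helper5.LpullLib Groth.Agent.Helper3.KInjDer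

variable {X Y X' Y' : Scheme.{u}} {f : X ⟶ Y} {g : Y' ⟶ Y} {f' : X' ⟶ Y'} {g' : X' ⟶ X}

/-- the base change transformation only depends on the morphisms -/
theorem isIso_theta_congr {g₁ g₂ : Y' ⟶ Y} {g₁' g₂' : X' ⟶ X} (hg : g₁ = g₂) (hg' : g₁' = g₂')
    (w₁ : g₁' ≫ f = f' ≫ g₁) (w₂ : g₂' ≫ f = f' ≫ g₂) (E : DCoh.D X) :
    IsIso ((theta w₁).app E) ↔ IsIso ((theta w₂).app E) := by
  subst hg hg'
  exact Iff.rfl

section Restricted

variable (hsq : IsPullback g' f' f g) (U : Y.Opens) (U' : Y'.Opens) (hU' : U' ≤ g ⁻¹ᵁ U)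

include hsq hU' in
lemma preimage_le : f' ⁻¹ᵁ U' ≤ g' ⁻¹ᵁ (f ⁻¹ᵁ U) := by
  intro x hx
  have h1 : g.base (f'.base x) ∈ U := hU' hx
  have h2 : f.base (g'.base x) = g.base (f'.base x) := by
    have := congrArg (fun t : X' ⟶ Y => t.base x) hsq.w
    exact this
  show f.base (g'.base x) ∈ U
  rw [h2]
  exact h1

/-- the base change of `g'` to the opens -/
noncomputable abbrev gRes' : (f' ⁻¹ᵁ U' : X'.Opens).toScheme ⟶ (f ⁻¹ᵁ U : X.Opens).toScheme :=
  g'.resLE (f ⁻¹ᵁ U) (f' ⁻¹ᵁ U') (preimage_le hsq U U' hU')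

/-- the restricted square is cartesian -/
theorem isPullback_restrict :
    IsPullback (gRes' hsq U U' hU') (f' ∣_ U') (f ∣_ U) (g.resLE U U' hU') := by
  have hR := (isPullback_morphismRestrict f U).flip
  have hL := (isPullback_morphismRestrict f' U').flip
  have hbig := hL.paste_horiz hsq
  have e1 : (f' ⁻¹ᵁ U').ι ≫ g' = gRes' hsq U U' hU' ≫ (f ⁻¹ᵁ U).ι :=
    (Scheme.Hom.resLE_comp_ι g' (preimage_le hsq U U' hU')).symm
  have e2 : U'.ι ≫ g = g.resLE U U' hU' ≫ U.ι := (Scheme.Hom.resLE_comp_ι g hU').symm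
  rw [e1, e2] at hbig
  refine IsPullback.of_right hbig ?_ hR
  rw [← cancel_mono U.ι]
  simp only [Category.assoc, Scheme.Hom.resLE_comp_ι, morphismRestrict_ι]
  rw [Scheme.Hom.resLE_comp_ι_assoc, hsq.w, morphismRestrict_ι_assoc]

/-- **locality of base change**: restricting `θ` to an open of `Y'` -/
theorem isIso_lpull_theta_iff (E : DCoh.D X) :
    IsIso ((DCoh.Lpull U'.ι).map ((theta hsq.w).app E)) ↔
      IsIso ((theta (isPullback_restrict hsq U U' hU').w).app
        ((DCoh.Lpull (f ⁻¹ᵁ U).ι).obj E)) := by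
  have hτ := (isPullback_morphismRestrict f' U').flip
  have hν := (isPullback_morphismRestrict f U).flip
  -- first decomposition
  have W₁ : ((f' ⁻¹ᵁ U').ι ≫ g') ≫ f = (f' ∣_ U') ≫ (U'.ι ≫ g) := by
    rw [Category.assoc, hsq.w, ← Category.assoc, hτ.w, Category.assoc]
  have p1 := theta_hpaste hsq.w hτ.w W₁ E
  haveI := isIso_theta_of_isOpenImmersion hτ ((DCoh.Lpull g').obj E)
  have i1 : IsIso ((theta W₁).app E) ↔ IsIso ((DCoh.Lpull U'.ι).map ((theta hsq.w).app E)) := by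
    rw [p1]
    constructor
    · intro h
      have h2 : IsIso ((DCoh.Lpull U'.ι).map ((theta hsq.w).app E) ≫
          ((theta hτ.w).app ((DCoh.Lpull g').obj E) ≫
            (DCoh.Rpush (f' ∣_ U')).map ((cL (f' ⁻¹ᵁ U').ι g').hom.app E))) :=
        IsIso.of_isIso_comp_left ((cL U'.ι g).inv.app ((DCoh.Rpush f).obj E)) _
      exact IsIso.of_isIso_comp_right _ ((theta hτ.w).app ((DCoh.Lpull g').obj E) ≫
            (DCoh.Rpush (f' ∣_ U')).map ((cL (f' ⁻¹ᵁ U').ι g').hom.app E))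
    · intro h
      infer_instance
  -- second decomposition
  have hσ := isPullback_restrict hsq U U' hU'
  have W₂ : (gRes' hsq U U' hU' ≫ (f ⁻¹ᵁ U).ι) ≫ f = (f' ∣_ U') ≫ (g.resLE U U' hU' ≫ U.ι) := by
    rw [Category.assoc, hν.w, ← Category.assoc, hσ.w, Category.assoc]
  have p2 := theta_hpaste hν.w hσ.w W₂ E
  haveI := isIso_theta_of_isOpenImmersion hν E
  have i2 : IsIso ((theta W₂).app E) ↔
      IsIso ((theta hσ.w).app ((DCoh.Lpull (f ⁻¹ᵁ U).ι).obj E)) := by
    rw [p2]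
    constructor
    · intro h
      have h2 : IsIso ((DCoh.Lpull (g.resLE U U' hU')).map ((theta hν.w).app E) ≫
          ((theta hσ.w).app ((DCoh.Lpull (f ⁻¹ᵁ U).ι).obj E) ≫
            (DCoh.Rpush (f' ∣_ U')).map ((cL (gRes' hsq U U' hU') (f ⁻¹ᵁ U).ι).hom.app E))) :=
        IsIso.of_isIso_comp_left ((cL (g.resLE U U' hU') U.ι).inv.app ((DCoh.Rpush f).obj E)) _
      have h3 : IsIso ((theta hσ.w).app ((DCoh.Lpull (f ⁻¹ᵁ U).ι).obj E) ≫
            (DCoh.Rpush (f' ∣_ U')).map ((cL (gRes' hsq U U' hU') (f ⁻¹ᵁ U).ι).hom.app E)) :=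
        IsIso.of_isIso_comp_left ((DCoh.Lpull (g.resLE U U' hU')).map ((theta hν.w).app E)) _
      exact IsIso.of_isIso_comp_right _
        ((DCoh.Rpush (f' ∣_ U')).map ((cL (gRes' hsq U U' hU') (f ⁻¹ᵁ U).ι).hom.app E))
    · intro h
      infer_instance
  have i3 : IsIso ((theta W₁).app E) ↔ IsIso ((theta W₂).app E) :=
    isIso_theta_congr (Scheme.Hom.resLE_comp_ι g hU').symm
      (Scheme.Hom.resLE_comp_ι g' (preimage_le hsq U U' hU')).symm W₁ W₂ E
  rw [← i1, i3, i2]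

end Restricted

/-- **the base change morphism is an isomorphism if it is so locally on `Y` and `Y'`** -/
theorem isIso_theta_of_local (hsq : IsPullback g' f' f g) (E : DCoh.D X)
    (h : ∀ y' : Y', ∃ (U : Y.Opens) (U' : Y'.Opens) (hU' : U' ≤ g ⁻¹ᵁ U), y' ∈ U' ∧
      IsIso ((theta (isPullback_restrict hsq U U' hU').w).app
        ((DCoh.Lpull (f ⁻¹ᵁ U).ι).obj E))) :
    IsIso ((theta hsq.w).app E) := by
  apply isIso_of_isIso_lpull_cover
  intro y'
  obtain ⟨U, U', hU', hy', hiso⟩ := h y'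
  refine ⟨U', U'.ι, inferInstance, ?_, ?_⟩
  · simpa using hy'
  · exact (isIso_lpull_theta_iff hsq U U' hU' E).2 hiso

end Groth.Agent.Lib.Helper5.BC
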