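import Mathlib
import Groth.Agent.Lib.Helper5.BC.Local
import Groth.Agent.Lib.Helper5.QC.QcqsInd
import Groth.Agent.Lib.Helper5.MV.MVTri
import Groth.Agent.Lib.Helper5.Gen.CoyEx
import Groth.Agent.Lib.Helper5.RpushPerf.WTShift
import Groth.Agent.Lib.Helper5.ProjF3.T2

/-!
# Reduction of base change to affine opens of the source (helper5)
-/
set_option autoImplicit false
set_option linter.unusedSectionVars false
set_option linter.unusedVariables false
set_option linter.style.haveILetI false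
universe u
open CategoryTheory CategoryTheory.Limits AlgebraicGeometry Pretriangulated TopologicalSpace
attribute [local instance] HasDerivedCategory.standard

namespace Groth.Agent.Lib.Helper5.BC

open Groth.Agent.Lib.Helper5.LpullLib Groth.Agent.Helper3.KInjDer
open Groth.Agent.Lib.Helper5.MV Groth.Agent.Lib.Helper5.QC Helper5.Gen
open Groth.Agent.Lib.Helper5.ProjF3 Groth.Agent.Lib.Helper5.RpushPerf

variable {X Y X' Y' : Scheme.{u}} {f : X ⟶ Y} {g : Y' ⟶ Y} {f' : X' ⟶ Y'} {g' : X' ⟶ X}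

lemma coyExact_src (f : X ⟶ Y) (g : Y' ⟶ Y) : CoyExact (DCoh.Rpush f ⋙ DCoh.Lpull g) :=
  ((weakTri_rpush f).comp (weakTri_lpull g)).coyExact

lemma coyExact_tgt (f' : X' ⟶ Y') (g' : X' ⟶ X) : CoyExact (DCoh.Lpull g' ⋙ DCoh.Rpush f') :=
  ((weakTri_lpull g').comp (weakTri_rpush f')).coyExact

/-- the iso locus of the base change transformation is a triangulated subcategory -/
instance (w : g' ≫ f = f' ≫ g) : (isoLocus (theta w)).IsTriangulated :=
  isoLocus_isTriangulated (theta w) (coyExact_src f g) (coyExact_tgt f' g')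

lemma isoLocus_biprod (w : g' ≫ f = f' ≫ g) (A B : DCoh.D X) (hA : isoLocus (theta w) A)
    (hB : isoLocus (theta w) B) : isoLocus (theta w) (A ⊞ B) :=
  (isoLocus (theta w)).ext_of_isTriangulatedClosed₂ _ (binaryBiproductTriangle_distinguished A B)
    hA hB

/-- Mayer–Vietoris step -/
lemma isoLocus_of_mv (w : g' ≫ f = f' ≫ g) {A B₁ B₂ C : DCoh.D X} (a : A ⟶ B₁ ⊞ B₂)
    (b : B₁ ⊞ B₂ ⟶ C) (c : C ⟶ A⟦(1 : ℤ)⟧) (hT : Triangle.mk a b c ∈ distTriang (DCoh.D X))
    (h₁ : isoLocus (theta w) B₁) (h₂ : isoLocus (theta w) B₂) (h₃ : isoLocus (theta w) C) :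
    isoLocus (theta w) A :=
  (isoLocus (theta w)).ext_of_isTriangulatedClosed₁ _ hT (isoLocus_biprod w B₁ B₂ h₁ h₂) h₃

/-- **reduction to affine opens of the source**: on a quasi-compact quasi-separated `X`, the
base change map is an isomorphism at `E` as soon as it is one at all `Rj_*(E|_W)[n]` for `W`
affine open -/
theorem isIso_theta_of_affine_opens (w : g' ≫ f = f' ≫ g) [CompactSpace X]
    [QuasiSeparatedSpace X] (E : DCoh.D X)
    (h : ∀ W : X.Opens, IsAffineOpen W →
      isoLocus (theta w) ((DCoh.Rpush W.ι).obj ((DCoh.restrictD W.ι).obj E))) :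
    IsIso ((theta w).app E) := by
  have hP : ∀ V : X.Opens, IsCompact (V : Set X) →
      isoLocus (theta w) ((DCoh.Rpush V.ι).obj ((DCoh.restrictD V.ι).obj E)) := by
    intro V hV
    refine qcqs_induction
      (fun V : X.Opens => isoLocus (theta w) ((DCoh.Rpush V.ι).obj ((DCoh.restrictD V.ι).obj E)))
      h ?_ V hV
    intro T U V W D hU hV hW
    obtain ⟨a, b, c, hT⟩ := exists_mv_triangle (𝟙 X) D T.ι U.ι V.ι W.ι
      (Category.comp_id _).symm (Category.comp_id _).symm (Category.comp_id _).symm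
      (Category.comp_id _).symm E
    exact isoLocus_of_mv w a b c hT hU hV hW
  have htop := hP ⊤ isCompact_univ
  have hbot := hP ⊥ (by simp)
  obtain ⟨a, b, c, hT⟩ := exists_mv_triangle_id (U := (⊤ : X.Opens)) (V := (⊥ : X.Opens))
    (W := (⊥ : X.Opens)) ⟨le_rfl, bot_le, le_sup_left, bot_le, le_rfl, inf_le_right⟩ E
  exact isoLocus_app _ _ (isoLocus_of_mv w a b c hT htop hbot hbot)

end Groth.Agent.Lib.Helper5.BC
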