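import Mathlib
import Groth.Agent.Lib.Helper5.BC.Induct
import Groth.Agent.Lib.Helper5.QC.LpullQC
import Groth.Agent.Lib.Helper5.QC.RpushQC
import Groth.Agent.Lib.Helper5.QC.DQCTri

/-!
# The recursion for base change: from affine to quasi-compact quasi-separated (helper5)
-/
set_option autoImplicit false
set_option linter.unusedSectionVars false
set_option linter.unusedVariables false
set_option linter.style.haveILetI false
universe u
open CategoryTheory CategoryTheory.Limits AlgebraicGeometry Pretriangulated TopologicalSpace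
attribute [local instance] HasDerivedCategory.standard

namespace Groth.Agent.Lib.Helper5.BC

open Groth.Agent.Lib.Helper5.LpullLib Groth.Agent.Helper3.KInjDer
open Groth.Agent.Lib.Helper5.MV Groth.Agent.Lib.Helper5.QC Helper5.Gen
open Groth.Agent.Lib.Helper5.ProjF3 Groth.Agent.Lib.Helper5.RpushPerf

section VStep

variable {X Y X' Y' : Scheme.{u}} {f : X ⟶ Y} {g : Y' ⟶ Y} {f' : X' ⟶ Y'} {g' : X' ⟶ X}

/-- the square of an open `W ⊆ X` and its preimage in `X'` -/
lemma isPullback_rho (g' : X' ⟶ X) (W : X.Opens) :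
    IsPullback (g' ∣_ W) (g' ⁻¹ᵁ W).ι W.ι g' := isPullback_morphismRestrict g' W

/-- the square of `W ⊆ X` over the base -/
lemma isPullback_big (hsq : IsPullback g' f' f g) (W : X.Opens) :
    IsPullback (g' ∣_ W) ((g' ⁻¹ᵁ W).ι ≫ f') (W.ι ≫ f) g :=
  (isPullback_rho g' W).paste_vert hsq

/-- **vertical step**: base change for `Rj_* E`, `j : W ⟶ X` an open, follows from base
change for `W` over the base and base change of `j` along `g'` -/
theorem isIso_theta_rpush_of (hsq : IsPullback g' f' f g) (W : X.Opens)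
    (E : DCoh.D (W : Scheme.{u}))
    (hbig : IsIso ((theta (isPullback_big hsq W).w).app E))
    (hρ : IsIso ((theta (isPullback_rho g' W).w).app E)) :
    IsIso ((theta hsq.w).app ((DCoh.Rpush W.ι).obj E)) := by
  have p := theta_vpaste hsq.w (isPullback_rho g' W).w (isPullback_big hsq W).w E
  rw [p] at hbig
  have h2 : IsIso ((theta hsq.w).app ((DCoh.Rpush W.ι).obj E) ≫
      ((DCoh.Rpush f').map ((theta (isPullback_rho g' W).w).app E) ≫
        (rC (g' ⁻¹ᵁ W).ι f').inv.app ((DCoh.Lpull (g' ∣_ W)).obj E))) :=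
    IsIso.of_isIso_comp_left ((DCoh.Lpull g).map ((rC W.ι f).hom.app E)) _
  exact IsIso.of_isIso_comp_right _
    ((DCoh.Rpush f').map ((theta (isPullback_rho g' W).w).app E) ≫
        (rC (g' ⁻¹ᵁ W).ι f').inv.app ((DCoh.Lpull (g' ∣_ W)).obj E))

end VStep

/-- a class of cospans stable under the operations used in the recursion -/
structure BCClass (C : ∀ {X Y Y' : Scheme.{u}}, (X ⟶ Y) → (Y' ⟶ Y) → Prop) : Prop where
  restrict : ∀ {X Y Y' : Scheme.{u}} (f : X ⟶ Y) (g : Y' ⟶ Y) (U : Y.Opens) (U' : Y'.Opens)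
    (hU' : U' ≤ g ⁻¹ᵁ U), C f g → C (f ∣_ U) (g.resLE U U' hU')
  source : ∀ {X Y Y' : Scheme.{u}} (f : X ⟶ Y) (g : Y' ⟶ Y) (W : X.Opens),
    C f g → C (W.ι ≫ f) g
  rho : ∀ {X Y X' Y' : Scheme.{u}} {f : X ⟶ Y} {g : Y' ⟶ Y} {f' : X' ⟶ Y'} {g' : X' ⟶ X}
    (hsq : IsPullback g' f' f g) (W : X.Opens), C f g → C W.ι g'

/-- base change holds for all squares in the class `C` with affine bases and source
satisfying `PP` -/
def BCFor (C : ∀ {X Y Y' : Scheme.{u}}, (X ⟶ Y) → (Y' ⟶ Y) → Prop)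
    (PP : Scheme.{u} → Prop) : Prop :=
  ∀ {X Y X' Y' : Scheme.{u}} {f : X ⟶ Y} {g : Y' ⟶ Y} {f' : X' ⟶ Y'} {g' : X' ⟶ X}
    (hsq : IsPullback g' f' f g), PP X → IsAffine Y → IsAffine Y' → C f g →
    ∀ E : DCoh.D X, DCoh.IsQCohD E → IsIso ((theta hsq.w).app E)

/-- the next level of sources -/
def NextLevel (PP : Scheme.{u} → Prop) (X : Scheme.{u}) : Prop :=
  CompactSpace X ∧ QuasiSeparatedSpace X ∧
    ∀ W V : X.Opens, IsAffineOpen W → IsAffineOpen V → PP ((W.ι ⁻¹ᵁ V : W.toScheme.Opens) : Scheme.{u})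

lemma exists_affine_nbhds {X X' : Scheme.{u}} (g' : X' ⟶ X) (x' : X') :
    ∃ (V : X.Opens) (_ : IsAffineOpen V) (V' : X'.Opens) (_ : IsAffineOpen V'),
      x' ∈ V' ∧ V' ≤ g' ⁻¹ᵁ V := by
  obtain ⟨_, ⟨U, hU : IsAffineOpen U, rfl⟩, hyU, -⟩ :=
    X.isBasis_affineOpens.exists_subset_of_mem_open (Set.mem_univ (g' x')) isOpen_univ
  obtain ⟨_, ⟨W, hW : IsAffineOpen W, rfl⟩, hyW, hWU⟩ :=
    X'.isBasis_affineOpens.exists_subset_of_mem_open
      (show x' ∈ ((g' ⁻¹ᵁ U : X'.Opens) : Set X') from hyU) (g' ⁻¹ᵁ U).2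
  exact ⟨U, hU, W, hW, hyW, hWU⟩

/-- **the recursion step** -/
theorem bcFor_step {C : ∀ {X Y Y' : Scheme.{u}}, (X ⟶ Y) → (Y' ⟶ Y) → Prop} (hC : BCClass C)
    (hA : BCFor C (fun X => IsAffine X)) {PP : Scheme.{u} → Prop} (hPP : BCFor C PP) :
    BCFor C (NextLevel PP) := by
  intro X Y X' Y' f g f' g' hsq hX hY hY' hfg E hE
  obtain ⟨hc, hqs, hWV⟩ := hX
  haveI := hc
  haveI := hqs
  apply isIso_theta_of_affine_opens hsq.w E
  intro W hW n
  obtain ⟨e⟩ := weakTri_nonempty_shift_iso (weakTri_rpush W.ι) n ((DCoh.restrictD W.ι).obj E)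
  refine Helper5.Gen.isIso_app_of_iso _ e ?_
  have hEW : DCoh.IsQCohD (((DCoh.restrictD W.ι).obj E)⟦n⟧) :=
    isQCohD_shift _ (isQCohD_restrictD W E hE) n
  apply isIso_theta_rpush_of hsq W
  · exact hA (isPullback_big hsq W) hW hY hY' (hC.source f g W hfg) _ hEW
  · apply isIso_theta_of_local (isPullback_rho g' W)
    intro x'
    obtain ⟨V, hV, V', hV', hxV', hle⟩ := exists_affine_nbhds g' x'
    refine ⟨V, V', hle, hxV', ?_⟩
    exact hPP (isPullback_restrict (isPullback_rho g' W) V V' hle) (hWV W V hW hV) hV hV'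
      (hC.restrict _ _ V V' hle (hC.rho hsq W hfg)) _ (isQCohD_Lpull _ _ hEW)

end Groth.Agent.Lib.Helper5.BC
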