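import Mathlib
import Groth.Agent.Lib.Helper5.BC.Step

/-!
# The levels of the recursion for base change (helper5)
-/
set_option autoImplicit false
set_option linter.unusedSectionVars false
set_option linter.unusedVariables false
set_option linter.style.haveILetI false
universe u
open CategoryTheory CategoryTheory.Limits AlgebraicGeometry Pretriangulated TopologicalSpace
attribute [local instance] HasDerivedCategory.standard

namespace Groth.Agent.Lib.Helper5.BC

/-- in a separated scheme, the intersection of two affine opens, seen inside the first, is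
affine -/
lemma isAffine_preimage_of_isSeparated {T : Scheme.{u}} [T.IsSeparated] (A B : T.Opens)
    (hA : IsAffineOpen A) (hB : IsAffineOpen B) :
    IsAffine ((A.ι ⁻¹ᵁ B : A.toScheme.Opens) : Scheme.{u}) := by
  have h1 : IsAffineOpen (A ⊓ B) := hA.inf hB
  have h2 : A.ι ''ᵁ (A.ι ⁻¹ᵁ B) = A ⊓ B := by
    rw [Scheme.Hom.image_preimage_eq_opensRange_inf, Scheme.Opens.opensRange_ι]
  have h3 : IsAffineOpen (A.ι ⁻¹ᵁ B) := by
    rw [← Scheme.Hom.isAffineOpen_iff_of_isOpenImmersion A.ι, h2]
    exact h1
  exact h3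

/-- an open subscheme of an affine scheme is separated -/
lemma isSeparated_opens_of_isAffine {W : Scheme.{u}} [IsAffine W] (O : W.Opens) :
    (O : Scheme.{u}).IsSeparated := by
  constructor
  rw [show terminal.from (O : Scheme.{u}) = O.ι ≫ terminal.from W from
    terminalIsTerminal.hom_ext _ _]
  infer_instance

/-- the intersection of two affine opens of a quasi-separated scheme is quasi-compact with
affine intersections of affine opens -/
lemma nextLevel_affine_of_quasiSeparated {Z : Scheme.{u}} [QuasiSeparatedSpace Z] (W V : Z.Opens)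
    (hW : IsAffineOpen W) (hV : IsAffineOpen V) :
    NextLevel (fun X => IsAffine X) ((W.ι ⁻¹ᵁ V : W.toScheme.Opens) : Scheme.{u}) := by
  haveI : IsAffine (W : Scheme.{u}) := hW
  haveI := isSeparated_opens_of_isAffine (W.ι ⁻¹ᵁ V)
  refine ⟨?_, inferInstance, fun A B hA hB => isAffine_preimage_of_isSeparated A B hA hB⟩
  refine isCompact_iff_compactSpace.mp
    (?_ : IsCompact ((W.ι ⁻¹ᵁ V : W.toScheme.Opens) : Set W.toScheme))
  have hemb : Topology.IsEmbedding (W.ι : W.toScheme → Z) := W.ι.isOpenEmbedding.isEmbedding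
  rw [hemb.isCompact_iff]
  have : (W.ι : W.toScheme → Z) '' ((W.ι ⁻¹ᵁ V : W.toScheme.Opens) : Set W.toScheme) =
      (V : Set Z) ∩ (W : Set Z) := by
    have h := Set.image_preimage_eq_inter_range (f := (W.ι : W.toScheme → Z)) (t := (V : Set Z))
    rw [Scheme.Opens.range_ι] at h
    exact h
  rw [this]
  exact QuasiSeparatedSpace.inter_isCompact _ _ V.isOpen hV.isCompact W.isOpen hW.isCompact

/-- the preimage of an affine open under a qcqs morphism is at the second level -/
lemma nextLevel_preimage {X Y : Scheme.{u}} (f : X ⟶ Y) [QuasiCompact f] [QuasiSeparated f]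
    (U : Y.Opens) (hU : IsAffineOpen U) :
    NextLevel (NextLevel (fun X => IsAffine X)) ((f ⁻¹ᵁ U : X.Opens) : Scheme.{u}) := by
  haveI : IsAffine (U : Scheme.{u}) := hU
  haveI : QuasiSeparatedSpace ((f ⁻¹ᵁ U : X.Opens) : Scheme.{u}) :=
    quasiSeparatedSpace_of_quasiSeparated (f ∣_ U)
  refine ⟨?_, inferInstance, fun W V hW hV => nextLevel_affine_of_quasiSeparated W V hW hV⟩
  exact isCompact_iff_compactSpace.mp (f.isCompact_preimage hU.isCompact)

variable {X Y X' Y' : Scheme.{u}} {f : X ⟶ Y} {g : Y' ⟶ Y} {f' : X' ⟶ Y'} {g' : X' ⟶ X}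

/-- **base change for quasi-compact quasi-separated morphisms from the affine case** -/
theorem isIso_theta_of_bcClass {C : ∀ {X Y Y' : Scheme.{u}}, (X ⟶ Y) → (Y' ⟶ Y) → Prop}
    (hC : BCClass C) (hA : BCFor C (fun X => IsAffine X))
    (hsq : IsPullback g' f' f g) [QuasiCompact f] [QuasiSeparated f] (hfg : C f g)
    (E : DCoh.D X) (hE : DCoh.IsQCohD E) : IsIso ((theta hsq.w).app E) := by
  have h2 : BCFor @C (NextLevel (NextLevel (fun X => IsAffine X))) :=
    bcFor_step hC hA (bcFor_step hC hA hA)
  apply isIso_theta_of_local hsq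
  intro y'
  obtain ⟨U, hU, U', hU', hy', hle⟩ := exists_affine_nbhds g y'
  refine ⟨U, U', hle, hy', ?_⟩
  exact h2 (isPullback_restrict hsq U U' hle) (nextLevel_preimage f U hU) hU hU'
    (hC.restrict f g U U' hle hfg) _ (Groth.Agent.Lib.Helper5.QC.isQCohD_Lpull _ _ hE)

end Groth.Agent.Lib.Helper5.BC
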