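import Mathlib
import Groth.Agent.Lib.Helper5.BC.BcM
import Groth.Agent.Lib.Helper5.BC.Levels
import Groth.Agent.Lib.Helper5.QC.AffPush
import Groth.Agent.Lib.Helper5.Stalk.FlatPull
import Groth.Agent.Lib.Helper1.QcPullGen

/-!
# Flat base change in the affine case (helper5)
-/
set_option autoImplicit false
set_option linter.unusedSectionVars false
set_option linter.unusedVariables false
set_option linter.style.haveILetI false
universe u
open CategoryTheory CategoryTheory.Limits AlgebraicGeometry
attribute [local instance] HasDerivedCategory.standard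

namespace Groth.Agent.Lib.Helper5.BC

open Groth.Agent.Lib.Helper5.LpullLib Groth.Agent.Helper3.KInjDer
open Groth.Agent.Lib.Helper5.QC Groth.Agent.Lib.Helper5.MV Helper5.KInj
open Groth.Agent.Helper1

section Rho

variable {X S : Scheme.{u}} (a : X ⟶ S) [IsAffineHom a]
  (E : CochainComplex X.Modules ℤ) (hE : ∀ i, (E.X i).IsQuasicoherent)

include hE in
/-- for an affine morphism `a` and a complex `E` with quasi-coherent terms, the comparison
`Q (a_* E) ⟶ Ra_* (Q E)` is an isomorphism -/
theorem isIso_rho_of_isQuasicoherent :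
    IsIso (rho a ((HomotopyCategory.quotient X.Modules (ComplexShape.up ℤ)).obj E)) := by
  haveI : EnoughInjectives X.Modules := Groth.Agent.S0485.result _ X.ringCatSheaf
  haveI : HasExt.{u} X.Modules := hasExt_of_enoughInjectives _
  let s := holimLift (tI E) (tp E) (ta E) (ta_tp E)
  haveI : (holim (tI E) (tp E)).IsKInjective := isKInjective_holim _ _ (exists_section_tp E)
  haveI hs : QuasiIso s := by
    refine quasiIso_holimLift_of_famAcyc (testFam X) E detects_testFam (fun m => ?_)
    haveI := isQuasicoherent_homology_of_terms E hE m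
    exact famAcyc_of_isQuasicoherent _
  haveI : IsIso (DerivedCategory.Q.map s) := (DerivedCategory.isIso_Q_map_iff_quasiIso _ s).2 hs
  haveI hs' : QuasiIso ((pushC a).map s) := quasiIso_pushC_holimLift a E hE
  haveI : IsIso (DerivedCategory.Q.map ((pushC a).map s)) :=
    (DerivedCategory.isIso_Q_map_iff_quasiIso _ _).2 hs'
  have hnat := (rpushUnit a).naturality
    ((HomotopyCategory.quotient X.Modules (ComplexShape.up ℤ)).map s)
  haveI h1 : IsIso ((rpushUnit a).app
      ((HomotopyCategory.quotient X.Modules (ComplexShape.up ℤ)).obj (holim (tI E) (tp E)))) :=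
    isIso_unit_app (DCoh.pushKh a) (rpushUnit a) (holim (tI E) (tp E))
  haveI h2 : IsIso ((DCoh.pushKh a).map
      ((HomotopyCategory.quotient X.Modules (ComplexShape.up ℤ)).map s)) :=
    inferInstanceAs (IsIso (DerivedCategory.Q.map ((pushC a).map s)))
  haveI h3 : IsIso ((DerivedCategory.Qh ⋙ DCoh.Rpush a).map
      ((HomotopyCategory.quotient X.Modules (ComplexShape.up ℤ)).map s)) :=
    inferInstanceAs (IsIso ((DCoh.Rpush a).map (DerivedCategory.Q.map s)))
  have h4 : IsIso ((rpushUnit a).app
      ((HomotopyCategory.quotient X.Modules (ComplexShape.up ℤ)).obj E) ≫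
      (DerivedCategory.Qh ⋙ DCoh.Rpush a).map
        ((HomotopyCategory.quotient X.Modules (ComplexShape.up ℤ)).map s)) := by
    rw [← hnat]
    infer_instance
  exact IsIso.of_isIso_comp_right _ ((DerivedCategory.Qh ⋙ DCoh.Rpush a).map
        ((HomotopyCategory.quotient X.Modules (ComplexShape.up ℤ)).map s))

end Rho

section Kap

variable {Y Y' : Scheme.{u}} (g : Y' ⟶ Y) [Flat g]

/-- for a flat morphism, `Lg^* (Q V) ⟶ Q (g^* V)` is an isomorphism for every complex `V` -/
theorem isIso_kap_of_flat (V : CochainComplex Y.Modules ℤ) :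
    IsIso (kap g ((HomotopyCategory.quotient Y.Modules (ComplexShape.up ℤ)).obj V)) := by
  obtain ⟨P, p, hP, hp⟩ := (adaptedCell g).res V
  haveI := hp
  have hnat := kap_naturality g ((HomotopyCategory.quotient Y.Modules (ComplexShape.up ℤ)).map p)
  haveI h1 := isIso_kap g P hP
  haveI : IsIso (DerivedCategory.Q.map p) := (DerivedCategory.isIso_Q_map_iff_quasiIso _ p).2 hp
  haveI h2 : IsIso ((DCoh.Lpull g).map (DerivedCategory.Qh.map
      ((HomotopyCategory.quotient Y.Modules (ComplexShape.up ℤ)).map p))) :=
    inferInstanceAs (IsIso ((DCoh.Lpull g).map (DerivedCategory.Q.map p)))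
  haveI hq : QuasiIso (((Scheme.Modules.pullback g).mapHomologicalComplex (ComplexShape.up ℤ)).map p) :=
    inferInstance
  haveI h3 : IsIso (DerivedCategory.Qh.map ((pullK g).map
      ((HomotopyCategory.quotient Y.Modules (ComplexShape.up ℤ)).map p))) :=
    (DerivedCategory.isIso_Q_map_iff_quasiIso _ _).2 hq
  have h4 : IsIso ((DCoh.Lpull g).map (DerivedCategory.Qh.map
      ((HomotopyCategory.quotient Y.Modules (ComplexShape.up ℤ)).map p)) ≫
      kap g ((HomotopyCategory.quotient Y.Modules (ComplexShape.up ℤ)).obj V)) := by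
    rw [hnat]
    infer_instance
  exact IsIso.of_isIso_comp_left ((DCoh.Lpull g).map (DerivedCategory.Qh.map
      ((HomotopyCategory.quotient Y.Modules (ComplexShape.up ℤ)).map p))) _

end Kap

section Main

variable {X Y X' Y' : Scheme.{u}} {f : X ⟶ Y} {g : Y' ⟶ Y} {f' : X' ⟶ Y'} {g' : X' ⟶ X}

/-- **flat base change for an affine morphism, on complexes with quasi-coherent terms** -/
theorem isIso_theta_Q_of_flat (hsq : IsPullback g' f' f g) [IsAffineHom f] [Flat g]
    (C : CochainComplex X.Modules ℤ) (hC : ∀ i, (C.X i).IsQuasicoherent) :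
    IsIso ((theta hsq.w).app (DerivedCategory.Q.obj C)) := by
  haveI : IsAffineHom f' := MorphismProperty.of_isPullback hsq inferInstance
  haveI : Flat g' := MorphismProperty.of_isPullback hsq.flip inferInstance
  let U := (HomotopyCategory.quotient X.Modules (ComplexShape.up ℤ)).obj C
  have hstar := theta_Qh hsq.w U
  haveI i1 : IsIso (rho f U) := isIso_rho_of_isQuasicoherent f C hC
  haveI i2 : IsIso (kap g' U) := isIso_kap_of_flat g' C
  haveI i3 : IsIso (kap g ((pushK f).obj U)) := isIso_kap_of_flat g _
  haveI i4 : IsIso (rho f' ((pullK g').obj U)) := by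
    refine isIso_rho_of_isQuasicoherent f'
      (((Scheme.Modules.pullback g').mapHomologicalComplex (ComplexShape.up ℤ)).obj C) (fun i => ?_)
    haveI := hC i
    exact QcPullGen.isQuasicoherent_pullback g' (C.X i)
  haveI i5 : IsIso (DerivedCategory.Qh.map ((bcK hsq.w).app U)) := by
    rw [bcK_app_quotient hsq.w C]
    haveI : IsIso (bcC hsq.w C) := by
      haveI : ∀ n, IsIso ((bcC hsq.w C).f n) := fun n => by
        haveI := hC n
        rw [bcC_f]
        exact isIso_bcM_app hsq (C.X n)
      exact HomologicalComplex.Hom.isIso_of_components _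
    exact inferInstanceAs (IsIso (DerivedCategory.Q.map (bcC hsq.w C)))
  have h6 : IsIso ((DCoh.Lpull g).map (rho f U) ≫ (theta hsq.w).app (DerivedCategory.Qh.obj U) ≫
        (DCoh.Rpush f').map (kap g' U)) := by
    rw [hstar]
    infer_instance
  have h7 : IsIso ((theta hsq.w).app (DerivedCategory.Qh.obj U) ≫
        (DCoh.Rpush f').map (kap g' U)) :=
    IsIso.of_isIso_comp_left ((DCoh.Lpull g).map (rho f U)) _
  haveI i2' : IsIso ((DCoh.Rpush f').map (kap g' U)) := Functor.map_isIso _ _
  exact @IsIso.of_isIso_comp_right _ _ _ _ _ _ _ i2' h7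

/-- the class of cospans with flat second leg -/
def FlatClass : ∀ {X Y Y' : Scheme.{u}}, (X ⟶ Y) → (Y' ⟶ Y) → Prop := fun _ g => Flat g

theorem bcClass_flat : BCClass @FlatClass where
  restrict f g U U' hU' h := by
    haveI : Flat g := h
    exact inferInstanceAs (Flat (g.resLE U U' hU'))
  source f g W h := h
  rho hsq W h := by
    haveI : Flat _ := h
    exact MorphismProperty.of_isPullback hsq.flip inferInstance

theorem bcFor_flat_affine : BCFor @FlatClass (fun X => IsAffine X) := by
  intro X Y X' Y' f g f' g' hsq hX hY hY' hfg E hE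
  haveI := hX
  haveI := hY
  haveI : Flat g := hfg
  obtain ⟨C, hC, ⟨e⟩⟩ := exists_qcCx_iso X E hE
  exact Helper5.Gen.isIso_app_of_iso _ e.symm (isIso_theta_Q_of_flat hsq C hC)

/-- **flat base change for quasi-compact quasi-separated morphisms** -/
theorem isIso_theta_of_flat (hsq : IsPullback g' f' f g) [QuasiCompact f] [QuasiSeparated f]
    [Flat g] (E : DCoh.D X) (hE : DCoh.IsQCohD E) : IsIso ((theta hsq.w).app E) :=
  isIso_theta_of_bcClass bcClass_flat bcFor_flat_affine hsq
    (show FlatClass f g from inferInstanceAs (Flat g)) E hE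

end Main

end Groth.Agent.Lib.Helper5.BC
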