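import Mathlib
import Groth.Agent.Lib.Helper5.BC.AffFlat
import Groth.Agent.Lib.Helper5.ProjF3.T2

/-!
# Base change for an affine morphism from comparison isomorphisms (helper5)
-/
set_option autoImplicit false
set_option linter.unusedSectionVars false
set_option linter.unusedVariables false
set_option linter.style.haveILetI false
universe u
open CategoryTheory CategoryTheory.Limits AlgebraicGeometry
attribute [local instance] HasDerivedCategory.standard

namespace Groth.Agent.Lib.Helper5.BC

open Groth.Agent.Lib.Helper5.LpullLib Groth.Agent.Helper3.KInjDer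
open Groth.Agent.Lib.Helper5.QC Groth.Agent.Lib.Helper5.MV Helper5.KInj
open Groth.Agent.Helper1

/-- for a K-flat complex `V`, `Lg^* (Q V) ⟶ Q (g^* V)` is an isomorphism -/
theorem isIso_kap_of_isKFlat {Y Y' : Scheme.{u}} (g : Y' ⟶ Y) (V : CochainComplex Y.Modules ℤ)
    (hV : DCoh.IsKFlat V) :
    IsIso (kap g ((HomotopyCategory.quotient Y.Modules (ComplexShape.up ℤ)).obj V)) :=
  Groth.Agent.Lib.Helper5.ProjF3.isIso_lpullβ_app g V hV

variable {X Y X' Y' : Scheme.{u}} {f : X ⟶ Y} {g : Y' ⟶ Y} {f' : X' ⟶ Y'} {g' : X' ⟶ X}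

/-- **base change for an affine morphism, on a complex with quasi-coherent terms for which the
two pullback comparison maps are isomorphisms** -/
theorem isIso_theta_Q_of_kap (hsq : IsPullback g' f' f g) [IsAffineHom f]
    (C : CochainComplex X.Modules ℤ) (hC : ∀ i, (C.X i).IsQuasicoherent)
    (i2 : IsIso (kap g' ((HomotopyCategory.quotient X.Modules (ComplexShape.up ℤ)).obj C)))
    (i3 : IsIso (kap g ((pushK f).obj
      ((HomotopyCategory.quotient X.Modules (ComplexShape.up ℤ)).obj C)))) :
    IsIso ((theta hsq.w).app (DerivedCategory.Q.obj C)) := by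
  haveI : IsAffineHom f' := MorphismProperty.of_isPullback hsq inferInstance
  let U := (HomotopyCategory.quotient X.Modules (ComplexShape.up ℤ)).obj C
  have hstar := theta_Qh hsq.w U
  haveI i1 : IsIso (rho f U) := isIso_rho_of_isQuasicoherent f C hC
  haveI i2' : IsIso (kap g' U) := i2
  haveI i3' : IsIso (kap g ((pushK f).obj U)) := i3
  haveI i4 : IsIso (rho f' ((pullK g').obj U)) := by
    refine isIso_rho_of_isQuasicoherent f'
      (((Scheme.Modules.pullback g').mapHomologicalComplex (ComplexShape.up ℤ)).obj C) (fun i => ?_)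
    haveI := hC i
    exact QcPullGen.isQuasicoherent_pullback g' (C.X i)
  haveI i5 : IsIso (DerivedCategory.Qh.map ((bcK hsq.w).app U)) := by
    rw [bcK_app_quotient hsq.w C]
    haveI : IsIso (bcC hsq.w C) := by
      haveI : ∀ n, IsIso ((bcC hsq.w C).f n) := fun n => by
        haveI := hC n
        rw [bcC_f]
        exact isIso_bcM_app hsq (C.X n)
      exact HomologicalComplex.Hom.isIso_of_components _
    exact inferInstanceAs (IsIso (DerivedCategory.Q.map (bcC hsq.w C)))
  have h6 : IsIso ((DCoh.Lpull g).map (rho f U) ≫ (theta hsq.w).app (DerivedCategory.Qh.obj U) ≫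
        (DCoh.Rpush f').map (kap g' U)) := by
    rw [hstar]
    infer_instance
  have h7 : IsIso ((theta hsq.w).app (DerivedCategory.Qh.obj U) ≫
        (DCoh.Rpush f').map (kap g' U)) :=
    IsIso.of_isIso_comp_left ((DCoh.Lpull g).map (rho f U)) _
  haveI i2'' : IsIso ((DCoh.Rpush f').map (kap g' U)) := Functor.map_isIso _ _
  exact @IsIso.of_isIso_comp_right _ _ _ _ _ _ _ i2'' h7

end Groth.Agent.Lib.Helper5.BC
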