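import Mathlib
import Groth.Agent.Lib.Helper5.BC.KapGen
import Groth.Agent.Lib.Helper5.QC.TildePush
import Groth.Agent.Lib.Helper5.FibStalk.AcycBC
import Groth.Agent.Lib.Helper5.StalkTen.KFlatPull

/-!
# Base change along an arbitrary morphism for a flat morphism `f` (helper5)
-/
set_option autoImplicit false
set_option linter.unusedSectionVars false
set_option linter.unusedVariables false
set_option linter.style.haveILetI false
universe u
open CategoryTheory CategoryTheory.Limits AlgebraicGeometry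
attribute [local instance] HasDerivedCategory.standard

namespace Groth.Agent.Lib.Helper5.BC

open Groth.Agent.Lib.Helper5.LpullLib Groth.Agent.Helper3.KInjDer
open Groth.Agent.Lib.Helper5.QC Groth.Agent.Lib.Helper5.MV Helper5.KInj
open Groth.Agent.Helper1 Groth.Agent.Lib.Helper5.KFlat Groth.Agent.Lib.Helper5.RestrTen
  Groth.Agent.Lib.Helper5.KProj

section Repr

/-- objects of `D_QCoh(Spec R)` are represented by tildes of K-flat complexes of modules -/
theorem exists_tildeCx_iso_kflat_ring (R : CommRingCat.{u})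
    (K : DCoh.D (Spec (CommRingCat.of R))) (hK : DCoh.IsQCohD K) :
    ∃ M : CochainComplex (ModuleCat.{u} R) ℤ, DRing.IsKFlat R M ∧
      Nonempty (DerivedCategory.Q.obj ((tCx R).obj M) ≅ K) := by
  obtain ⟨M₀, ⟨e⟩⟩ := exists_tildeCx_iso R K hK
  haveI : QuasiIso ((tCx R).map (resMap M₀)) := inferInstance
  haveI : IsIso (DerivedCategory.Q.map ((tCx R).map (resMap M₀))) :=
    (DerivedCategory.isIso_Q_map_iff_quasiIso _ _).2 inferInstance
  exact ⟨res M₀, isKFlat_res M₀,
    ⟨asIso (DerivedCategory.Q.map ((tCx R).map (resMap M₀))) ≪≫ e⟩⟩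

/-- on an affine scheme, every object of `D_QCoh` is represented by the pullback of the tilde of
a K-flat complex of modules -/
theorem exists_kflat_repr (U : Scheme.{u}) [IsAffine U] (K : DCoh.D U) (hK : DCoh.IsQCohD K) :
    ∃ M : CochainComplex (ModuleCat.{u} Γ(U, ⊤)) ℤ, DRing.IsKFlat Γ(U, ⊤) M ∧
      Nonempty (K ≅ DerivedCategory.Q.obj
        (((Scheme.Modules.pullback U.isoSpec.hom).mapHomologicalComplex (ComplexShape.up ℤ)).obj
          ((tCx Γ(U, ⊤)).obj M))) := by
  let φ : U ≅ Spec (CommRingCat.of Γ(U, ⊤)) := U.isoSpec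
  let K₀ : CochainComplex U.Modules ℤ := DerivedCategory.Q.objPreimage K
  let eK₀ : DerivedCategory.Q.obj K₀ ≅ K := DerivedCategory.Q.objObjPreimageIso K
  have hK' : DCoh.IsQCohD (DerivedCategory.Q.obj (resCx φ.inv K₀)) :=
    isQCohD_resCx φ.inv K₀ (isQCohD_of_iso eK₀.symm hK)
  obtain ⟨M, hM, ⟨eM⟩⟩ := exists_tildeCx_iso_kflat_ring Γ(U, ⊤) _ hK'
  refine ⟨M, hM, ⟨?_⟩⟩
  let e : Scheme.Modules.restrictFunctor φ.inv ⋙ Scheme.Modules.restrictFunctor φ.hom ≅
      𝟭 U.Modules :=
    (Scheme.Modules.restrictFunctorComp φ.hom φ.inv).symm ≪≫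
      Scheme.Modules.restrictFunctorCongr φ.hom_inv_id ≪≫ Scheme.Modules.restrictFunctorId
  let e1 : resCx φ.hom (resCx φ.inv K₀) ≅ K₀ :=
    HomologicalComplex.Hom.isoOfComponents (fun i => e.app (K₀.X i)) (by
      intro i j _
      exact (e.hom.naturality (K₀.d i j)).symm)
  exact eK₀.symm ≪≫ DerivedCategory.Q.mapIso e1.symm ≪≫
    ((Scheme.Modules.restrictFunctor φ.hom).mapDerivedCategoryFactors.app _).symm ≪≫
    (DCoh.restrictD φ.hom).mapIso eM.symm ≪≫
    (Scheme.Modules.restrictFunctor φ.hom).mapDerivedCategoryFactors.app _ ≪≫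
    DerivedCategory.Q.mapIso ((NatIso.mapHomologicalComplex
      (Scheme.Modules.restrictFunctorIsoPullback φ.hom) (ComplexShape.up ℤ)).app _)

end Repr

section Push

/-- the termwise base change map is an isomorphism for an affine morphism and a complex with
quasi-coherent terms -/
theorem isIso_bcC_of_isQuasicoherent {X Y X' Y' : Scheme.{u}} {f : X ⟶ Y} {g : Y' ⟶ Y}
    {f' : X' ⟶ Y'} {g' : X' ⟶ X} (hsq : IsPullback g' f' f g) [IsAffineHom f]
    (C : CochainComplex X.Modules ℤ) (hC : ∀ i, (C.X i).IsQuasicoherent) :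
    IsIso (bcC hsq.w C) := by
  haveI : ∀ n, IsIso ((bcC hsq.w C).f n) := fun n => by
    haveI := hC n
    rw [bcC_f]
    exact isIso_bcM_app hsq (C.X n)
  exact HomologicalComplex.Hom.isIso_of_components _

/-- K-flatness of the pushforward is inherited along base change, for an affine morphism and a
complex with quasi-coherent terms -/
theorem isKFlat_pushC_pullCx {X Y X' Y' : Scheme.{u}} {f : X ⟶ Y} {g : Y' ⟶ Y}
    {f' : X' ⟶ Y'} {g' : X' ⟶ X} (hsq : IsPullback g' f' f g) [IsAffineHom f]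
    (C : CochainComplex X.Modules ℤ) (hC : ∀ i, (C.X i).IsQuasicoherent)
    (h : DCoh.IsKFlat (((Scheme.Modules.pushforward f).mapHomologicalComplex
      (ComplexShape.up ℤ)).obj C)) :
    DCoh.IsKFlat (((Scheme.Modules.pushforward f').mapHomologicalComplex (ComplexShape.up ℤ)).obj
      (((Scheme.Modules.pullback g').mapHomologicalComplex (ComplexShape.up ℤ)).obj C)) := by
  haveI := isIso_bcC_of_isQuasicoherent hsq C hC
  have h4 := Groth.Agent.Lib.Helper5.KFlatPull.isKFlat_pullback g _ h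
  exact Groth.Agent.Lib.Helper5.PerfTensor.isKFlat_of_iso (asIso (bcC hsq.w C)) h4

/-- the pushforward along `Spec` of a flat ring map of the tilde of a K-flat complex is K-flat -/
theorem isKFlat_pushC_tilde {R S : CommRingCat.{u}} (φ : R ⟶ S)
    (hφ : letI := φ.hom.toAlgebra; Module.Flat R S)
    (M : CochainComplex (ModuleCat.{u} S) ℤ) (hM : DRing.IsKFlat S M) :
    DCoh.IsKFlat (((Scheme.Modules.pushforward (specMap' φ)).mapHomologicalComplex
      (ComplexShape.up ℤ)).obj ((tCx S).obj M)) := by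
  have h1 : DRing.IsKFlat R ((DTen.resCx φ.hom).obj M) :=
    Groth.Agent.Lib.Helper5.FibStalk.isKFlat_resCx_of_flat φ.hom hφ M hM
  have h2 := Groth.Agent.Lib.Helper5.TildeStalk.isKFlat_tilde R _ h1
  exact Groth.Agent.Lib.Helper5.PerfTensor.isKFlat_of_iso ((tildePushCxIso φ).app M).symm h2

variable {X Y : Scheme.{u}} [IsAffine X] [IsAffine Y] (f : X ⟶ Y)

theorem isPullback_isoSpec :
    IsPullback X.isoSpec.hom f (specMap' f.appTop) Y.isoSpec.hom :=
  IsPullback.of_horiz_isIso ⟨Scheme.isoSpec_hom_naturality f⟩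

/-- the pushforward along a flat morphism of affine schemes of the standard K-flat
representative is K-flat -/
theorem isKFlat_pushC_of_flat [Flat f] (M : CochainComplex (ModuleCat.{u} Γ(X, ⊤)) ℤ)
    (hM : DRing.IsKFlat Γ(X, ⊤) M) :
    DCoh.IsKFlat (((Scheme.Modules.pushforward f).mapHomologicalComplex (ComplexShape.up ℤ)).obj
      (((Scheme.Modules.pullback X.isoSpec.hom).mapHomologicalComplex (ComplexShape.up ℤ)).obj
        ((tCx Γ(X, ⊤)).obj M))) := by
  have hflat : (letI := f.appTop.hom.toAlgebra; Module.Flat Γ(Y, ⊤) Γ(X, ⊤)) :=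
    (HasRingHomProperty.iff_of_isAffine (P := @Flat)).1 inferInstance
  refine isKFlat_pushC_pullCx (isPullback_isoSpec f) ((tCx Γ(X, ⊤)).obj M) (fun n => ?_)
    (isKFlat_pushC_tilde f.appTop hflat M hM)
  exact (inferInstance : ((tilde.functor Γ(X, ⊤)).obj (M.X n)).IsQuasicoherent)

end Push

section Main

variable {X Y X' Y' : Scheme.{u}} {f : X ⟶ Y} {g : Y' ⟶ Y} {f' : X' ⟶ Y'} {g' : X' ⟶ X}

/-- the class of cospans with flat first leg -/
def FlatLeftClass : ∀ {X Y Y' : Scheme.{u}}, (X ⟶ Y) → (Y' ⟶ Y) → Prop := fun f _ => Flat f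

theorem bcClass_flatLeft : BCClass @FlatLeftClass where
  restrict f g U U' hU' h := by
    haveI : Flat f := h
    exact inferInstanceAs (Flat (f ∣_ U))
  source f g W h := by
    haveI : Flat f := h
    exact inferInstanceAs (Flat (W.ι ≫ f))
  rho hsq W h := inferInstanceAs (Flat W.ι)

theorem bcFor_flatLeft_affine : BCFor @FlatLeftClass (fun X => IsAffine X) := by
  intro X Y X' Y' f g f' g' hsq hX hY hY' hfg E hE
  haveI := hX
  haveI := hY
  haveI : Flat f := hfg
  obtain ⟨M, hM, ⟨e⟩⟩ := exists_kflat_repr X E hE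
  let C := ((Scheme.Modules.pullback X.isoSpec.hom).mapHomologicalComplex (ComplexShape.up ℤ)).obj
    ((tCx Γ(X, ⊤)).obj M)
  have hC : ∀ i, (C.X i).IsQuasicoherent := fun i => by
    haveI : (((tCx Γ(X, ⊤)).obj M).X i).IsQuasicoherent :=
      (inferInstance : ((tilde.functor Γ(X, ⊤)).obj (M.X i)).IsQuasicoherent)
    exact QcPullGen.isQuasicoherent_pullback X.isoSpec.hom (((tCx Γ(X, ⊤)).obj M).X i)
  have hK : DCoh.IsKFlat C :=
    Groth.Agent.Lib.Helper5.KFlatPull.isKFlat_pullback X.isoSpec.hom _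
      (Groth.Agent.Lib.Helper5.TildeStalk.isKFlat_tilde Γ(X, ⊤) M hM)
  have hK' := isKFlat_pushC_of_flat f M hM
  exact Helper5.Gen.isIso_app_of_iso _ e.symm
    (isIso_theta_Q_of_kap hsq C hC (isIso_kap_of_isKFlat g' C hK)
      (isIso_kap_of_isKFlat g _ hK'))

/-- **base change for a flat quasi-compact quasi-separated morphism `f`**, along an arbitrary
morphism -/
theorem isIso_theta_of_flat_left (hsq : IsPullback g' f' f g) [QuasiCompact f] [QuasiSeparated f]
    [Flat f] (E : DCoh.D X) (hE : DCoh.IsQCohD E) : IsIso ((theta hsq.w).app E) :=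
  isIso_theta_of_bcClass bcClass_flatLeft bcFor_flatLeft_affine hsq
    (show FlatLeftClass f g from inferInstanceAs (Flat f)) E hE

end Main

end Groth.Agent.Lib.Helper5.BC
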