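import Mathlib
import Groth.Agent.Lib.Helper5.TorInd.Aff

/-!
# Tor independent base change for affine schemes, from the vanishing of `Tor` of the rings of
global sections only (helper5)
-/
set_option autoImplicit false
set_option linter.unusedSectionVars false
set_option linter.unusedVariables false
set_option linter.style.haveILetI false
universe u
open CategoryTheory CategoryTheory.Limits AlgebraicGeometry
attribute [local instance] HasDerivedCategory.standard

namespace Groth.Agent.Lib.Helper5.BC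

open Groth.Agent.Lib.Helper5.LpullLib Groth.Agent.Helper3.KInjDer
open Groth.Agent.Lib.Helper5.QC Groth.Agent.Lib.Helper5.MV Helper5.KInj
open Groth.Agent.Helper1 Groth.Agent.Lib.Helper5.KFlat Groth.Agent.Lib.Helper5.RestrTen
  Groth.Agent.Lib.Helper5.KProj

variable {X Y X' Y' : Scheme.{u}} {f : X ⟶ Y} {g : Y' ⟶ Y} {f' : X' ⟶ Y'} {g' : X' ⟶ X}

/-- **base change for a cartesian square with `X`, `Y`, `Y'` affine and
`Tor_i^{Γ(Y)}(Γ(Y'), Γ(X)) = 0` for `i > 0`** -/
theorem isIso_theta_affine_of_tor (hsq : IsPullback g' f' f g) [IsAffine X] [IsAffine Y]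
    [IsAffine Y'] (htor : ∀ i : ℕ, 0 < i → TorP f.appTop g.appTop i)
    (E : DCoh.D X) (hE : DCoh.IsQCohD E) : IsIso ((theta hsq.w).app E) := by
  obtain ⟨M, hMp, hM, ⟨e⟩⟩ := exists_kproj_repr X E hE
  haveI := hMp
  let C := ((Scheme.Modules.pullback X.isoSpec.hom).mapHomologicalComplex (ComplexShape.up ℤ)).obj
    ((tCx Γ(X, ⊤)).obj M)
  have hC : ∀ i, (C.X i).IsQuasicoherent := fun i => by
    haveI : (((tCx Γ(X, ⊤)).obj M).X i).IsQuasicoherent :=
      (inferInstance : ((tilde.functor Γ(X, ⊤)).obj (M.X i)).IsQuasicoherent)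
    exact QcPullGen.isQuasicoherent_pullback X.isoSpec.hom (((tCx Γ(X, ⊤)).obj M).X i)
  have hK : DCoh.IsKFlat C :=
    Groth.Agent.Lib.Helper5.KFlatPull.isKFlat_pullback X.isoSpec.hom _
      (Groth.Agent.Lib.Helper5.TildeStalk.isKFlat_tilde Γ(X, ⊤) M hM)
  exact Helper5.Gen.isIso_app_of_iso _ e.symm
    (isIso_theta_Q_of_kap hsq C hC (isIso_kap_of_isKFlat g' C hK)
      (isIso_kap_pushC_of_tor f g htor M))

end Groth.Agent.Lib.Helper5.BC
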