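import Mathlib
import Groth.Prelude.Def_DCoh4
import Groth.Agent.Lib.Helper5.LTen.AssocD

/-!
# The derived tensor product functor depends only on the class of the complex in `D(O_X)` (helper5)
-/
set_option autoImplicit false
set_option linter.unusedSectionVars false
set_option linter.unusedVariables false
set_option linter.style.haveILetI false
universe u
open CategoryTheory CategoryTheory.Limits AlgebraicGeometry
open Groth.Agent.Lib.Helper5.DerQ
attribute [local instance] HasDerivedCategory.standard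

namespace Groth.Agent.Lib.Helper5.LTenCongr

open Groth.Agent.Lib.Helper5.AssocD

variable {X : Scheme.{u}} {K K' : CochainComplex X.Modules ℤ}
  [DCoh.HasLTensorCx K] [DCoh.HasLTensorCx K']

/-- the transformation `- ⊗ K ⟶ - ⊗ K'` induced by a morphism of complexes -/
noncomputable def tenMap (q : K ⟶ K') : DCoh.tensorCxQ K ⟶ DCoh.tensorCxQ K' :=
  Functor.whiskerRight ((DCoh.tensorCx (X := X)).flip.map q) DerivedCategory.Q

lemma tenMap_app (q : K ⟶ K') (N : CochainComplex X.Modules ℤ) :
    (tenMap q).app N = DerivedCategory.Q.map ((DCoh.tensorCx.obj N).map q) := rfl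

/-- the induced transformation of derived tensor products -/
noncomputable def ltenMap (q : K ⟶ K') : DCoh.LTensorCx K ⟶ DCoh.LTensorCx K' :=
  Functor.leftDerivedNatTrans (DCoh.LTensorCx K) (DCoh.LTensorCx K') (ε K) (ε K')
    (HomologicalComplex.quasiIso X.Modules (ComplexShape.up ℤ)) (tenMap q)

theorem isIso_ltenMap (q : K ⟶ K') (hq : QuasiIso q) : IsIso (ltenMap q) := by
  haveI : ∀ M : DCoh.D X, IsIso ((ltenMap q).app M) := by
    intro M
    let K₀ : CochainComplex X.Modules ℤ := DerivedCategory.Q.objPreimage M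
    let e : DerivedCategory.Q.obj K₀ ≅ M := DerivedCategory.Q.objObjPreimageIso M
    obtain ⟨P, p, h1, _, h3, _⟩ :=
      Groth.Agent.Lib.Helper5.KFlatSiteQ.exists_isKFlat_resolution (O := X.sheaf) K₀
    have : QuasiIso p := h3
    let e' : DerivedCategory.Q.obj P ≅ M := asIso (DerivedCategory.Q.map p) ≪≫ e
    rw [← NatTrans.isIso_app_iff_of_iso (ltenMap q) e']
    have h4 : (ltenMap q).app (DerivedCategory.Q.obj P) ≫ (ε K').app P =
        (ε K).app P ≫ (tenMap q).app P :=
      Functor.leftDerivedNatTrans_app _ _ _ _ _ _ _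
    have h6 : IsIso ((ε K').app P) :=
      isIso_counit_app (Groth.Agent.Lib.Helper5.LTenAll.adaptedQ_tensorCxQ _)
        (DCoh.LTensorCx K') _ P h1
    haveI h7 : IsIso ((ε K).app P) :=
      isIso_counit_app (Groth.Agent.Lib.Helper5.LTenAll.adaptedQ_tensorCxQ _)
        (DCoh.LTensorCx K) _ P h1
    haveI h8 : IsIso ((tenMap q).app P) := by
      rw [tenMap_app]
      have := Groth.Agent.Lib.Helper5.LTenDer.quasiIso_tensor_obj P h1 q hq
      exact (DerivedCategory.isIso_Q_map_iff_quasiIso _ _).2 this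
    have h5 : IsIso ((ltenMap q).app (DerivedCategory.Q.obj P) ≫ (ε K').app P) := by
      rw [h4]; infer_instance
    exact @IsIso.of_isIso_comp_right _ _ _ _ _ _ _ h6 h5
  exact NatIso.isIso_of_isIso_app _

/-- a quasi-isomorphism `K ⟶ K'` induces an isomorphism `- ⊗^L K ≅ - ⊗^L K'` -/
noncomputable def ltensorIsoOfQuasiIso (q : K ⟶ K') (hq : QuasiIso q) :
    DCoh.LTensorCx K ≅ DCoh.LTensorCx K' :=
  haveI := isIso_ltenMap q hq
  asIso (ltenMap q)

/-- **complexes isomorphic in `D(O_X)` have isomorphic derived tensor product functors** -/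
theorem nonempty_ltensor_iso_of_iso
    (e : DerivedCategory.Q.obj K ≅ DerivedCategory.Q.obj K') :
    Nonempty (DCoh.LTensorCx K ≅ DCoh.LTensorCx K') := by
  obtain ⟨K'', s, hs, g, hfac⟩ := DerivedCategory.right_fac e.hom
  haveI : DCoh.HasLTensorCx K'' := Groth.Agent.Lib.Helper5.LTenAll.hasLTensorCx K''
  have hs' : QuasiIso s := (DerivedCategory.isIso_Q_map_iff_quasiIso _ _).1 hs
  have hg : IsIso (DerivedCategory.Q.map g) := by
    have h1 : DerivedCategory.Q.map g = DerivedCategory.Q.map s ≫ e.hom := by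
      rw [hfac, IsIso.hom_inv_id_assoc]
    rw [h1]
    infer_instance
  have hg' : QuasiIso g := (DerivedCategory.isIso_Q_map_iff_quasiIso _ _).1 hg
  exact ⟨(ltensorIsoOfQuasiIso s hs').symm ≪≫ ltensorIsoOfQuasiIso g hg'⟩

end Groth.Agent.Lib.Helper5.LTenCongr
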