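import Mathlib
import Groth.Prelude.Def_DCoh4
import Groth.Agent.Lib.Helper5.ShriekProj.Der
import Groth.Agent.Lib.Helper5.ShriekProj.TotFun2
import Groth.Agent.Lib.Helper5.ProjF.PullTen
import Groth.Agent.Lib.Helper5.ProjF3.T2

/-!
# `Lf^* (M ⊗^L L) ≅ Lf^* M ⊗^L f^* L` for a K-flat complex `L`, naturally in `M` (helper5)
-/
set_option autoImplicit false
set_option linter.unusedSectionVars false
set_option linter.unusedVariables false
set_option linter.style.haveILetI false
universe u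
open CategoryTheory CategoryTheory.Limits AlgebraicGeometry
open Groth.Agent.Lib.Helper5.DerQ
attribute [local instance] HasDerivedCategory.standard

namespace Groth.Agent.Lib.Helper5.PullTenNat

open Groth.Agent.Lib.Helper5.ProjF Groth.Agent.Lib.Helper5.ProjF3

variable {X Y : Scheme.{u}} (f : X ⟶ Y) (L : CochainComplex Y.Modules ℤ)

/-- `f^*` on complexes -/
noncomputable abbrev pC : CochainComplex Y.Modules ℤ ⥤ CochainComplex X.Modules ℤ :=
  (Scheme.Modules.pullback f).mapHomologicalComplex (ComplexShape.up ℤ)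

/-- `f^* L` -/
noncomputable abbrev fL : CochainComplex X.Modules ℤ := (pC f).obj L

/-- naturality of `deltaCxIso` in the first variable -/
lemma deltaCxIso_naturality {F F' : CochainComplex Y.Modules ℤ} (a : F ⟶ F') :
    (pC f).map ((DCoh.tensorCx.map a).app L) ≫ (deltaCxIso f F' L).hom =
      (deltaCxIso f F L).hom ≫ (DCoh.tensorCx.map ((pC f).map a)).app (fL f L) :=
  Groth.Agent.Lib.Helper5.TotFun.totIso_naturality₁ DCoh.tensorBi DCoh.tensorBi
    (Scheme.Modules.pullback f) (Scheme.Modules.pullback f) (Scheme.Modules.pullback f)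
    (deltaIso f)
    (fun g B => deltaMap_naturality_left f g B) (fun A _ _ h => deltaMap_naturality_right f A h)
    a L

/-- `f^*` commutes with `- ⊗ L`, as a natural isomorphism -/
noncomputable def deltaNatIso :
    (DCoh.tensorCx (X := Y)).flip.obj L ⋙ pC f ≅
      pC f ⋙ (DCoh.tensorCx (X := X)).flip.obj (fL f L) :=
  NatIso.ofComponents (fun F => deltaCxIso f F L) (fun a => deltaCxIso_naturality f L a)

/-- `N ↦ Q (f^* (N ⊗ L))` -/
noncomputable abbrev F₁ : CochainComplex Y.Modules ℤ ⥤ DCoh.D X :=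
  ((DCoh.tensorCx (X := Y)).flip.obj L ⋙ pC f) ⋙ DerivedCategory.Q

/-- `N ↦ Q (f^* N ⊗ f^* L)` -/
noncomputable abbrev F₂ : CochainComplex Y.Modules ℤ ⥤ DCoh.D X :=
  pC f ⋙ DCoh.tensorCxQ (fL f L)

/-- the comparison between the underived functors -/
noncomputable def στ : F₁ f L ≅ F₂ f L :=
  Functor.isoWhiskerRight (deltaNatIso f L) DerivedCategory.Q ≪≫ Functor.associator _ _ _

variable [DCoh.HasLpull f] in
theorem isIso_lpullβ_app' (K : CochainComplex Y.Modules ℤ) (hK : DCoh.IsKFlat K) :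
    IsIso ((lpullβ f).app K) :=
  Groth.Agent.Lib.Helper5.KProj.DerHo.isIso_counit_app
    (Groth.Agent.Lib.Helper5.ProjF.adaptedKF f) (DCoh.Lpull f)
    (Groth.Agent.Lib.Helper5.LpullLib.lpullCounit f) K hK

variable (hL : DCoh.IsKFlat L)

include hL in
theorem adapted₁ : AdaptedQ (F₁ f L)
    (fun N : CochainComplex Y.Modules ℤ => DCoh.IsKFlat N) where
  htpy a b hab := by
    have h1 : Homotopy ((DCoh.tensorCx.map a).app L) ((DCoh.tensorCx.map b).app L) :=
      HomologicalComplex.mapBifunctorMapHomotopy₁ hab (𝟙 L) DCoh.tensorBi (ComplexShape.up ℤ)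
    exact Groth.Agent.Lib.Helper5.LTenAll.Q_map_eq_of_homotopy _ _
      ((Scheme.Modules.pullback f).mapHomotopy h1)
  res N := (Groth.Agent.Lib.Helper5.LTenAll.adaptedQ_tensorCxQ L).res N
  inv a hP hP' ha := by
    have h1 : QuasiIso ((DCoh.tensorCx.map a).app L) :=
      Groth.Agent.Lib.Helper5.KFlatSiteQ.quasiIso_tensor_right_of_isKFlat (O := Y.sheaf)
        a hP hP' ha L
    have h2 := quasiIso_pullback_map_of_isKFlat f ((DCoh.tensorCx.map a).app L)
      (isKFlat_tensor _ L hP hL) (isKFlat_tensor _ L hP' hL) h1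
    exact (DerivedCategory.isIso_Q_map_iff_quasiIso _ _).2 h2

theorem adapted₂ : AdaptedQ (F₂ f L)
    (fun N : CochainComplex Y.Modules ℤ => DCoh.IsKFlat N) where
  htpy a b hab :=
    (Groth.Agent.Lib.Helper5.LTenAll.adaptedQ_tensorCxQ (fL f L)).htpy _ _
      ((Scheme.Modules.pullback f).mapHomotopy hab)
  res N := (Groth.Agent.Lib.Helper5.LTenAll.adaptedQ_tensorCxQ L).res N
  inv a hP hP' ha := by
    have h2 := quasiIso_pullback_map_of_isKFlat f a hP hP' ha
    exact (Groth.Agent.Lib.Helper5.LTenAll.adaptedQ_tensorCxQ (fL f L)).inv ((pC f).map a)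
      (Groth.Agent.Lib.Helper5.KFlatPull.isKFlat_pullback f _ hP)
      (Groth.Agent.Lib.Helper5.KFlatPull.isKFlat_pullback f _ hP') h2

variable [DCoh.HasLTensorCx L] [DCoh.HasLTensorCx (fL f L)] [DCoh.HasLpull f]

/-- `Lf^* (- ⊗^L L)` -/
noncomputable abbrev G₁ : DCoh.D Y ⥤ DCoh.D X := DCoh.LTensorCx L ⋙ DCoh.Lpull f

/-- `Lf^* (-) ⊗^L f^* L` -/
noncomputable abbrev G₂ : DCoh.D Y ⥤ DCoh.D X := DCoh.Lpull f ⋙ DCoh.LTensorCx (fL f L)

/-- the comparison map for `G₁` -/
noncomputable def γ₁ : DerivedCategory.Q ⋙ G₁ f L ⟶ F₁ f L :=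
  (Functor.associator _ _ _).inv ≫
    Functor.whiskerRight (Groth.Agent.Lib.Helper5.AssocD.ε L) (DCoh.Lpull f) ≫
    (Functor.associator _ _ _).hom ≫
    Functor.whiskerLeft ((DCoh.tensorCx (X := Y)).flip.obj L) (lpullβ f) ≫
    (Functor.associator _ _ _).inv

/-- the comparison map for `G₂` -/
noncomputable def γ₂ : DerivedCategory.Q ⋙ G₂ f L ⟶ F₂ f L :=
  (Functor.associator _ _ _).inv ≫
    Functor.whiskerRight (lpullβ f) (DCoh.LTensorCx (fL f L)) ≫
    (Functor.associator _ _ _).hom ≫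
    Functor.whiskerLeft (pC f) (Groth.Agent.Lib.Helper5.AssocD.ε (fL f L))

lemma γ₁_app (N : CochainComplex Y.Modules ℤ) :
    (γ₁ f L).app N = (DCoh.Lpull f).map ((Groth.Agent.Lib.Helper5.AssocD.ε L).app N) ≫
      (lpullβ f).app ((DCoh.tensorCx.obj N).obj L) := by
  dsimp [γ₁]
  simp only [Category.id_comp, Category.comp_id]

lemma γ₂_app (N : CochainComplex Y.Modules ℤ) :
    (γ₂ f L).app N = (DCoh.LTensorCx (fL f L)).map ((lpullβ f).app N) ≫
      (Groth.Agent.Lib.Helper5.AssocD.ε (fL f L)).app ((pC f).obj N) := by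
  dsimp [γ₂]
  simp only [Category.id_comp]

include hL in
theorem isLeft₁ : (G₁ f L).IsLeftDerivedFunctor (γ₁ f L)
    (HomologicalComplex.quasiIso Y.Modules (ComplexShape.up ℤ)) := by
  apply isLeftDerivedFunctor_of_isIso (adapted₁ f L hL)
  intro N hN
  rw [γ₁_app]
  haveI : IsIso ((Groth.Agent.Lib.Helper5.AssocD.ε L).app N) :=
    isIso_counit_app (Groth.Agent.Lib.Helper5.LTenAll.adaptedQ_tensorCxQ L)
      (DCoh.LTensorCx L) _ _ hN
  haveI : IsIso ((lpullβ f).app ((DCoh.tensorCx.obj N).obj L)) :=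
    isIso_lpullβ_app' f _ (isKFlat_tensor N L hN hL)
  infer_instance

theorem isLeft₂ : (G₂ f L).IsLeftDerivedFunctor (γ₂ f L)
    (HomologicalComplex.quasiIso Y.Modules (ComplexShape.up ℤ)) := by
  apply isLeftDerivedFunctor_of_isIso (adapted₂ f L)
  intro N hN
  rw [γ₂_app]
  haveI : IsIso ((lpullβ f).app N) := isIso_lpullβ_app' f N hN
  haveI : IsIso ((Groth.Agent.Lib.Helper5.AssocD.ε (fL f L)).app ((pC f).obj N)) :=
    isIso_counit_app (Groth.Agent.Lib.Helper5.LTenAll.adaptedQ_tensorCxQ (fL f L))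
      (DCoh.LTensorCx (fL f L)) _ _
      (Groth.Agent.Lib.Helper5.KFlatPull.isKFlat_pullback f _ hN)
  infer_instance

/-- **the derived pullback commutes with the derived tensor product with a K-flat complex**:
`Lf^* (M ⊗^L L) ≅ Lf^* M ⊗^L f^* L`, naturally in `M` -/
noncomputable def lpullTenIso : G₁ f L ≅ G₂ f L :=
  haveI := isLeft₁ f L hL
  haveI := isLeft₂ f L
  Functor.leftDerivedNatIso (G₁ f L) (G₂ f L) (γ₁ f L) (γ₂ f L)
    (HomologicalComplex.quasiIso Y.Modules (ComplexShape.up ℤ)) (στ f L)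

end Groth.Agent.Lib.Helper5.PullTenNat
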