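import Mathlib
import Groth.Prelude.Def_DualFM
import Groth.Agent.Lib.Helper5.BC.FlatLeft
import Groth.Agent.Lib.Helper5.BC.LTenCongr
import Groth.Agent.Lib.Helper5.BC.PullTenNat
import Groth.Agent.Lib.Helper5.QC.LpullQC
import Groth.Agent.Lib.Helper5.QC.LTenQC

/-!
# Base change for Fourier–Mukai functors (helper5)
-/
set_option autoImplicit false
set_option linter.unusedSectionVars false
set_option linter.unusedVariables false
set_option linter.style.haveILetI false
universe u
open CategoryTheory CategoryTheory.Limits AlgebraicGeometry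
attribute [local instance] HasDerivedCategory.standard

namespace Groth.Agent.Lib.Helper5.BC

open Groth.Agent.Lib.Helper5.QC Groth.Agent.Lib.Helper5.LpullLib

section Geometry

variable {S S' X Y : Scheme.{u}} (a : X ⟶ S) (b : Y ⟶ S) (g : S' ⟶ S)

/-- the morphism `X' ×_{S'} Y' ⟶ X ×_S Y` -/
noncomputable abbrev hMap :
    pullback (pullback.snd a g) (pullback.snd b g) ⟶ pullback a b :=
  pullback.map (pullback.snd a g) (pullback.snd b g) a b (pullback.fst a g) (pullback.fst b g) g
    (pullback.condition).symm (pullback.condition).symm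

lemma hMap_fst : hMap a b g ≫ pullback.fst a b =
    pullback.fst (pullback.snd a g) (pullback.snd b g) ≫ pullback.fst a g :=
  pullback.lift_fst _ _ _

lemma hMap_snd : hMap a b g ≫ pullback.snd a b =
    pullback.snd (pullback.snd a g) (pullback.snd b g) ≫ pullback.fst b g :=
  pullback.lift_snd _ _ _

/-- `X' ×_{S'} Y' = (X ×_S Y) ×_Y Y'` -/
theorem isPullback_hMap :
    IsPullback (hMap a b g) (pullback.snd (pullback.snd a g) (pullback.snd b g))
      (pullback.snd a b) (pullback.fst b g) := by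
  have hP' := IsPullback.of_hasPullback (pullback.snd a g) (pullback.snd b g)
  have hX' := IsPullback.of_hasPullback a g
  have hP := IsPullback.of_hasPullback a b
  have big := hP'.paste_horiz hX'
  rw [← hMap_fst a b g, ← pullback.condition (f := b) (g := g)] at big
  exact IsPullback.of_right big (hMap_snd a b g) hP

end Geometry

section Tensor

variable {X Y : Scheme.{u}} (f : X ⟶ Y)

/-- **the derived pullback commutes with the derived tensor product**, as functors of the first
variable: `Lf^* (M ⊗^L K) ≅ Lf^* M ⊗^L K'` for any complex `K'` representing `Lf^* K` -/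
theorem nonempty_lpull_ltensor_nat (K : CochainComplex Y.Modules ℤ) [DCoh.HasLTensorCx K]
    (K' : CochainComplex X.Modules ℤ) [DCoh.HasLTensorCx K']
    (hK' : Nonempty (DCoh.toD X K' ≅ (DCoh.Lpull f).obj (DCoh.toD Y K))) :
    Nonempty (DCoh.LTensorCx K ⋙ DCoh.Lpull f ≅ DCoh.Lpull f ⋙ DCoh.LTensorCx K') := by
  obtain ⟨e'⟩ := hK'
  obtain ⟨K₁, p, hK₁, _, hp, _⟩ :=
    Groth.Agent.Lib.Helper5.KFlatSiteQ.exists_isKFlat_resolution (O := Y.sheaf) K
  have hp' : QuasiIso p := hp
  haveI : DCoh.HasLTensorCx K₁ := Groth.Agent.Lib.Helper5.LTenAll.hasLTensorCx K₁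
  haveI : DCoh.HasLTensorCx (Groth.Agent.Lib.Helper5.PullTenNat.fL f K₁) :=
    Groth.Agent.Lib.Helper5.LTenAll.hasLTensorCx _
  let e₁ := Groth.Agent.Lib.Helper5.LTenCongr.ltensorIsoOfQuasiIso p hp'
  let e₂ := Groth.Agent.Lib.Helper5.PullTenNat.lpullTenIso f K₁ hK₁
  haveI : IsIso ((Groth.Agent.Lib.Helper5.ProjF3.lpullβ f).app K₁) :=
    Groth.Agent.Lib.Helper5.PullTenNat.isIso_lpullβ_app' f K₁ hK₁
  have hQp : IsIso ((DerivedCategory.Q (C := Y.Modules)).map p) :=
    (DerivedCategory.isIso_Q_map_iff_quasiIso Y.Modules p).2 hp'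
  let e₃ : DerivedCategory.Q.obj (Groth.Agent.Lib.Helper5.PullTenNat.fL f K₁) ≅
      DerivedCategory.Q.obj K' :=
    (asIso ((Groth.Agent.Lib.Helper5.ProjF3.lpullβ f).app K₁)).symm ≪≫
      (DCoh.Lpull f).mapIso (@asIso _ _ _ _ ((DerivedCategory.Q (C := Y.Modules)).map p) hQp) ≪≫ e'.symm
  obtain ⟨e₄⟩ := Groth.Agent.Lib.Helper5.LTenCongr.nonempty_ltensor_iso_of_iso e₃
  exact ⟨Functor.isoWhiskerRight e₁.symm (DCoh.Lpull f) ≪≫ e₂ ≪≫
    Functor.isoWhiskerLeft (DCoh.Lpull f) e₄⟩

end Tensor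

section Main

variable {S S' X Y : Scheme.{u}} (a : X ⟶ S) (b : Y ⟶ S) (g : S' ⟶ S)

/-- base change for the square `X' ×_{S'} Y' = (X ×_S Y) ×_Y Y'` in the two flat cases -/
theorem isIso_theta_hMap [QuasiCompact a] [QuasiSeparated a] (hflat : Flat g ∨ Flat a)
    (E : DCoh.D (pullback a b)) (hE : DCoh.IsQCohD E) :
    IsIso ((theta (isPullback_hMap a b g).w).app E) := by
  haveI : QuasiCompact (pullback.snd a b) := inferInstance
  haveI : QuasiSeparated (pullback.snd a b) := inferInstance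
  rcases hflat with h | h
  · haveI := h
    haveI : Flat (pullback.fst b g) := inferInstance
    exact isIso_theta_of_flat (isPullback_hMap a b g) E hE
  · haveI := h
    haveI : Flat (pullback.snd a b) := inferInstance
    exact isIso_theta_of_flat_left (isPullback_hMap a b g) E hE

/-- **base change of Fourier–Mukai transforms** (the two flat cases) -/
theorem nonempty_fm_baseChange [QuasiCompact a] [QuasiSeparated a] (hflat : Flat g ∨ Flat a)
    (K : CochainComplex (pullback a b).Modules ℤ) (hK : DCoh.IsQCohD (DCoh.toD _ K))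
    [DCoh.HasLTensorCx K]
    (K' : CochainComplex (pullback (pullback.snd a g) (pullback.snd b g)).Modules ℤ)
    [DCoh.HasLTensorCx K']
    (hK' : Nonempty (DCoh.toD _ K' ≅ (DCoh.Lpull (hMap a b g)).obj (DCoh.toD _ K))) :
    Nonempty (ObjectProperty.ι (DCoh.IsQCohD (X := X)) ⋙ DCoh.Lpull (pullback.fst a g) ⋙
        FMK.phi (pullback.snd a g) (pullback.snd b g) K' ≅
      ObjectProperty.ι (DCoh.IsQCohD (X := X)) ⋙ FMK.phi a b K ⋙
        DCoh.Lpull (pullback.fst b g)) := by
  obtain ⟨eT⟩ := nonempty_lpull_ltensor_nat (hMap a b g) K K' hK'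
  let eB := beta (hMap_fst a b g)
  let G : (DCoh.IsQCohD (X := X)).FullSubcategory ⥤ DCoh.D (pullback a b) :=
    ObjectProperty.ι (DCoh.IsQCohD (X := X)) ⋙ DCoh.Lpull (pullback.fst a b) ⋙ DCoh.LTensorCx K
  have hG : ∀ E : (DCoh.IsQCohD (X := X)).FullSubcategory,
      IsIso ((Functor.whiskerLeft G (theta (isPullback_hMap a b g).w)).app E) := by
    intro E
    exact isIso_theta_hMap a b g hflat _
      (isQCohD_LTensorCx K hK _ (isQCohD_Lpull (pullback.fst a b) E.obj E.property))
  haveI : IsIso (Functor.whiskerLeft G (theta (isPullback_hMap a b g).w)) :=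
    NatIso.isIso_of_isIso_app _
  let eθ := asIso (Functor.whiskerLeft G (theta (isPullback_hMap a b g).w))
  let e1 : ObjectProperty.ι (DCoh.IsQCohD (X := X)) ⋙ DCoh.Lpull (pullback.fst a g) ⋙
        FMK.phi (pullback.snd a g) (pullback.snd b g) K' ≅
      ObjectProperty.ι (DCoh.IsQCohD (X := X)) ⋙
        (DCoh.Lpull (pullback.fst a b) ⋙ DCoh.Lpull (hMap a b g)) ⋙
        (DCoh.LTensorCx K' ⋙ DCoh.Rpush (pullback.snd (pullback.snd a g) (pullback.snd b g))) :=
    Functor.isoWhiskerLeft (ObjectProperty.ι (DCoh.IsQCohD (X := X)))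
      (Functor.isoWhiskerRight eB
        (DCoh.LTensorCx K' ⋙ DCoh.Rpush (pullback.snd (pullback.snd a g) (pullback.snd b g))))
  let e2 : ObjectProperty.ι (DCoh.IsQCohD (X := X)) ⋙
        (DCoh.Lpull (pullback.fst a b) ⋙ DCoh.Lpull (hMap a b g)) ⋙
        (DCoh.LTensorCx K' ⋙ DCoh.Rpush (pullback.snd (pullback.snd a g) (pullback.snd b g))) ≅
      G ⋙ (DCoh.Lpull (hMap a b g) ⋙
        DCoh.Rpush (pullback.snd (pullback.snd a g) (pullback.snd b g))) :=
    Functor.isoWhiskerLeft
      (ObjectProperty.ι (DCoh.IsQCohD (X := X)) ⋙ DCoh.Lpull (pullback.fst a b))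
      (Functor.isoWhiskerRight eT.symm
        (DCoh.Rpush (pullback.snd (pullback.snd a g) (pullback.snd b g))))
  exact ⟨e1 ≪≫ e2 ≪≫ eθ.symm⟩

end Main

end Groth.Agent.Lib.Helper5.BC
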