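import Mathlib
import Groth.Prelude.Def_DualFM
import Groth.Agent.Lib.Helper5.BC.FMBC

/-!
# Geometry of the triple fibre product under base change (helper5)
-/
set_option autoImplicit false
set_option linter.unusedSectionVars false
set_option linter.unusedVariables false
set_option linter.style.haveILetI false
universe u
open CategoryTheory CategoryTheory.Limits AlgebraicGeometry

namespace Groth.Agent.Lib.Helper5.BC

section Geometry

variable {S S' X Y Z : Scheme.{u}} (a : X ⟶ S) (b : Y ⟶ S) (c : Z ⟶ S) (g : S' ⟶ S)

/-- `X' ×_{S'} Y' = Y' ×_Y (X ×_S Y)`, the version through the first projections -/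
theorem isPullback_hMap_fst :
    IsPullback (hMap a b g) (pullback.fst (pullback.snd a g) (pullback.snd b g))
      (pullback.fst a b) (pullback.fst a g) := by
  have hP' := (IsPullback.of_hasPullback (pullback.snd a g) (pullback.snd b g)).flip
  have hY' := IsPullback.of_hasPullback b g
  have hP := (IsPullback.of_hasPullback a b).flip
  have big := hP'.paste_horiz hY'
  rw [← hMap_snd a b g, ← pullback.condition (f := a) (g := g)] at big
  exact IsPullback.of_right big (hMap_fst a b g) hP

/-- `X' ×_{S'} Y' = (X ×_S Y) ×_S S'` -/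
theorem isPullback_hMap_base :
    IsPullback (hMap a b g)
      (pullback.snd (pullback.snd a g) (pullback.snd b g) ≫ pullback.snd b g)
      (pullback.snd a b ≫ b) g :=
  (isPullback_hMap a b g).paste_vert (IsPullback.of_hasPullback b g)

/-- the morphism of triple products `X' ×_{S'} Y' ×_{S'} Z' ⟶ X ×_S Y ×_S Z` -/
noncomputable def tMap :
    FMK.T (pullback.snd a g) (pullback.snd b g) (pullback.snd c g) ⟶ FMK.T a b c :=
  pullback.map (pullback.snd (pullback.snd a g) (pullback.snd b g))
    (pullback.fst (pullback.snd b g) (pullback.snd c g)) (pullback.snd a b) (pullback.fst b c)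
    (hMap a b g) (hMap b c g) (pullback.fst b g) (hMap_snd a b g).symm (hMap_fst b c g).symm

lemma tMap_p12 : tMap a b c g ≫ FMK.p12 a b c =
    FMK.p12 (pullback.snd a g) (pullback.snd b g) (pullback.snd c g) ≫ hMap a b g :=
  pullback.lift_fst _ _ _

lemma tMap_p23 : tMap a b c g ≫ FMK.p23 a b c =
    FMK.p23 (pullback.snd a g) (pullback.snd b g) (pullback.snd c g) ≫ hMap b c g :=
  pullback.lift_snd _ _ _

lemma tMap_p13 : tMap a b c g ≫ FMK.p13 a b c =
    FMK.p13 (pullback.snd a g) (pullback.snd b g) (pullback.snd c g) ≫ hMap a c g := by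
  apply pullback.hom_ext
  · rw [Category.assoc, Category.assoc, FMK.p13_fst, hMap_fst a c g, FMK.p13_fst_assoc,
      ← Category.assoc, tMap_p12, Category.assoc, hMap_fst a b g]
  · rw [Category.assoc, Category.assoc, FMK.p13_snd, hMap_snd a c g, FMK.p13_snd_assoc,
      ← Category.assoc, tMap_p23, Category.assoc, hMap_snd b c g]

/-- `T' = T ×_{Y ×_S Z} (Y' ×_{S'} Z')` -/
theorem isPullback_tMap_p23 :
    IsPullback (tMap a b c g) (FMK.p23 (pullback.snd a g) (pullback.snd b g) (pullback.snd c g))
      (FMK.p23 a b c) (hMap b c g) := by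
  have hT' := IsPullback.of_hasPullback (pullback.snd (pullback.snd a g) (pullback.snd b g))
    (pullback.fst (pullback.snd b g) (pullback.snd c g))
  have big := hT'.paste_horiz (isPullback_hMap a b g)
  have e1 : pullback.fst (pullback.snd (pullback.snd a g) (pullback.snd b g))
      (pullback.fst (pullback.snd b g) (pullback.snd c g)) ≫ hMap a b g =
      tMap a b c g ≫ FMK.p12 a b c := (tMap_p12 a b c g).symm
  rw [e1, ← hMap_fst b c g] at big
  exact IsPullback.of_right big (tMap_p23 a b c g)
    (IsPullback.of_hasPullback (pullback.snd a b) (pullback.fst b c))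

/-- `T' = T ×_S S'` -/
theorem isPullback_tMap_base :
    IsPullback (tMap a b c g)
      (FMK.p23 (pullback.snd a g) (pullback.snd b g) (pullback.snd c g) ≫
        pullback.snd (pullback.snd b g) (pullback.snd c g) ≫ pullback.snd c g)
      (FMK.p23 a b c ≫ pullback.snd b c ≫ c) g :=
  (isPullback_tMap_p23 a b c g).paste_vert (isPullback_hMap_base b c g)

/-- `T' = T ×_{X ×_S Z} (X' ×_{S'} Z')` -/
theorem isPullback_tMap_p13 :
    IsPullback (tMap a b c g) (FMK.p13 (pullback.snd a g) (pullback.snd b g) (pullback.snd c g))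
      (FMK.p13 a b c) (hMap a c g) := by
  have big := isPullback_tMap_base a b c g
  have e1 : FMK.p23 (pullback.snd a g) (pullback.snd b g) (pullback.snd c g) ≫
      pullback.snd (pullback.snd b g) (pullback.snd c g) ≫ pullback.snd c g =
      FMK.p13 (pullback.snd a g) (pullback.snd b g) (pullback.snd c g) ≫
        pullback.snd (pullback.snd a g) (pullback.snd c g) ≫ pullback.snd c g := by
    rw [← Category.assoc, ← FMK.p13_snd, Category.assoc]
  have e2 : FMK.p23 a b c ≫ pullback.snd b c ≫ c = FMK.p13 a b c ≫ pullback.snd a c ≫ c := by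
    rw [← Category.assoc, ← FMK.p13_snd, Category.assoc]
  rw [e1, e2] at big
  exact IsPullback.of_bot big (tMap_p13 a b c g) (isPullback_hMap_base a c g)

/-- `T = (X ×_S Z) ×_X (X ×_S Y)` -/
theorem isPullback_p13_p12 :
    IsPullback (FMK.p13 a b c) (FMK.p12 a b c) (pullback.fst a c) (pullback.fst a b) := by
  have F1 := (IsPullback.of_hasPullback (pullback.snd a b) (pullback.fst b c)).flip
  have F2 := (IsPullback.of_hasPullback b c).flip
  have G := F1.paste_horiz F2
  have H1 := (IsPullback.of_hasPullback a c).flip
  have e1 : pullback.snd (pullback.snd a b) (pullback.fst b c) ≫ pullback.snd b c =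
      FMK.p13 a b c ≫ pullback.snd a c := (FMK.p13_snd a b c).symm
  rw [e1, ← pullback.condition (f := a) (g := b)] at G
  exact IsPullback.of_right G (FMK.p13_fst a b c) H1

end Geometry

end Groth.Agent.Lib.Helper5.BC
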