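import Mathlib
import Groth.Prelude.Def_DualFM
import Groth.Agent.Lib.Helper5.BC.FMConvGeom
import Groth.Agent.Lib.Helper5.BC.AffFlat
import Groth.Agent.Lib.Helper5.Perf.CountHomAff

/-!
# Base change for composite Fourier–Mukai kernels (helper5)
-/
set_option autoImplicit false
set_option linter.unusedSectionVars false
set_option linter.unusedVariables false
set_option linter.style.haveILetI false
universe u
open CategoryTheory CategoryTheory.Limits AlgebraicGeometry
attribute [local instance] HasDerivedCategory.standard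

namespace Groth.Agent.Lib.Helper5.BC

open Groth.Agent.Lib.Helper5.QC Groth.Agent.Lib.Helper5.LpullLib

section FlatPull

variable {X Y : Scheme.{u}} (f : X ⟶ Y) [Flat f]

/-- for a flat morphism the termwise inverse image computes the derived inverse image -/
noncomputable def flatPullIso (M : CochainComplex Y.Modules ℤ) :
    (DCoh.Lpull f).obj (DCoh.toD Y M) ≅ DCoh.toD X ((FMK.cxPull f).obj M) :=
  @asIso _ _ _ _ (kap f ((HomotopyCategory.quotient Y.Modules (ComplexShape.up ℤ)).obj M))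
    (isIso_kap_of_flat f M)

end FlatPull

section Main

variable {S S' X Y Z : Scheme.{u}} (a : X ⟶ S) (b : Y ⟶ S) (c : Z ⟶ S) (g : S' ⟶ S)

theorem flat_p13 [Flat b] : Flat (FMK.p13 a b c) :=
  MorphismProperty.of_isPullback (P := @Flat) (isPullback_p13_p12 a b c).flip inferInstance

theorem quasiCompact_p13 [QuasiCompact b] : QuasiCompact (FMK.p13 a b c) :=
  MorphismProperty.of_isPullback (P := @QuasiCompact) (isPullback_p13_p12 a b c).flip inferInstance

theorem quasiSeparated_p13 [QuasiSeparated b] : QuasiSeparated (FMK.p13 a b c) :=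
  MorphismProperty.of_isPullback (P := @QuasiSeparated) (isPullback_p13_p12 a b c).flip
    inferInstance

/-- **base change for the composite kernel** -/
theorem nonempty_conv_baseChange [Flat a] [Flat b] [QuasiCompact b] [QuasiSeparated b]
    (K : CochainComplex (pullback a b).Modules ℤ) (M : CochainComplex (pullback b c).Modules ℤ)
    (hK : DCoh.IsQCohD (DCoh.toD _ K)) (hM : DCoh.IsQCohD (DCoh.toD _ M))
    [DCoh.HasLTensorCx ((FMK.cxPull (FMK.p23 a b c)).obj M)]
    (K₁ : CochainComplex (pullback (pullback.snd a g) (pullback.snd b g)).Modules ℤ)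
    (hK₁ : Nonempty (DCoh.toD _ K₁ ≅ (DCoh.Lpull (hMap a b g)).obj (DCoh.toD _ K)))
    (M₁ : CochainComplex (pullback (pullback.snd b g) (pullback.snd c g)).Modules ℤ)
    (hM₁ : Nonempty (DCoh.toD _ M₁ ≅ (DCoh.Lpull (hMap b c g)).obj (DCoh.toD _ M)))
    [DCoh.HasLTensorCx ((FMK.cxPull
      (FMK.p23 (pullback.snd a g) (pullback.snd b g) (pullback.snd c g))).obj M₁)] :
    Nonempty ((DCoh.Lpull (hMap a c g)).obj
        (FMK.conv a b c K ((FMK.cxPull (FMK.p23 a b c)).obj M)) ≅
      FMK.conv (pullback.snd a g) (pullback.snd b g) (pullback.snd c g) K₁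
        ((FMK.cxPull (FMK.p23 (pullback.snd a g) (pullback.snd b g) (pullback.snd c g))).obj
          M₁)) := by
  obtain ⟨eK₁⟩ := hK₁
  obtain ⟨eM₁⟩ := hM₁
  haveI : Flat (FMK.p13 a b c) := flat_p13 a b c
  haveI : QuasiCompact (FMK.p13 a b c) := quasiCompact_p13 a b c
  haveI : QuasiSeparated (FMK.p13 a b c) := quasiSeparated_p13 a b c
  haveI : Flat (FMK.p23 a b c) := inferInstanceAs (Flat (pullback.snd _ _))
  haveI : Flat (FMK.p23 (pullback.snd a g) (pullback.snd b g) (pullback.snd c g)) :=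
    inferInstanceAs (Flat (pullback.snd _ _))
  -- the complexes on the triple products
  let L := (FMK.cxPull (FMK.p23 a b c)).obj M
  let L₁ := (FMK.cxPull (FMK.p23 (pullback.snd a g) (pullback.snd b g) (pullback.snd c g))).obj M₁
  have hL : DCoh.IsQCohD (DCoh.toD _ L) :=
    isQCohD_of_iso (flatPullIso (FMK.p23 a b c) M) (isQCohD_Lpull (FMK.p23 a b c) _ hM)
  let A := (DCoh.LTensorCx L).obj ((DCoh.Lpull (FMK.p12 a b c)).obj (DCoh.toD _ K))
  have hA : DCoh.IsQCohD A :=
    isQCohD_LTensorCx L hL _ (isQCohD_Lpull (FMK.p12 a b c) _ hK)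
  -- base change
  haveI hθ : IsIso ((theta (isPullback_tMap_p13 a b c g).w).app A) :=
    isIso_theta_of_flat_left (isPullback_tMap_p13 a b c g) A hA
  let e1 : (DCoh.Lpull (hMap a c g)).obj ((DCoh.Rpush (FMK.p13 a b c)).obj A) ≅
      (DCoh.Rpush (FMK.p13 (pullback.snd a g) (pullback.snd b g) (pullback.snd c g))).obj
        ((DCoh.Lpull (tMap a b c g)).obj A) :=
    asIso ((theta (isPullback_tMap_p13 a b c g).w).app A)
  -- `L₁` represents `LH^* L`
  let eL : DCoh.toD _ L₁ ≅ (DCoh.Lpull (tMap a b c g)).obj (DCoh.toD _ L) :=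
    (flatPullIso (FMK.p23 (pullback.snd a g) (pullback.snd b g) (pullback.snd c g)) M₁).symm ≪≫
      (DCoh.Lpull (FMK.p23 (pullback.snd a g) (pullback.snd b g) (pullback.snd c g))).mapIso eM₁ ≪≫
      (beta (tMap_p23 a b c g)).app (DCoh.toD _ M) ≪≫
      (DCoh.Lpull (tMap a b c g)).mapIso (flatPullIso (FMK.p23 a b c) M)
  obtain ⟨eT⟩ := nonempty_lpull_ltensor_nat (tMap a b c g) L L₁ ⟨eL⟩
  let e2 : (DCoh.Lpull (tMap a b c g)).obj A ≅
      (DCoh.LTensorCx L₁).obj ((DCoh.Lpull (tMap a b c g)).obj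
        ((DCoh.Lpull (FMK.p12 a b c)).obj (DCoh.toD _ K))) :=
    eT.app ((DCoh.Lpull (FMK.p12 a b c)).obj (DCoh.toD _ K))
  let e3 : (DCoh.Lpull (tMap a b c g)).obj ((DCoh.Lpull (FMK.p12 a b c)).obj (DCoh.toD _ K)) ≅
      (DCoh.Lpull (FMK.p12 (pullback.snd a g) (pullback.snd b g) (pullback.snd c g))).obj
        (DCoh.toD _ K₁) :=
    ((beta (tMap_p12 a b c g)).app (DCoh.toD _ K)).symm ≪≫
      (DCoh.Lpull (FMK.p12 (pullback.snd a g) (pullback.snd b g) (pullback.snd c g))).mapIso
        eK₁.symm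
  exact ⟨e1 ≪≫ (DCoh.Rpush (FMK.p13 (pullback.snd a g) (pullback.snd b g)
    (pullback.snd c g))).mapIso (e2 ≪≫ (DCoh.LTensorCx L₁).mapIso e3)⟩

end Main

end Groth.Agent.Lib.Helper5.BC
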