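import Mathlib
import Groth.Prelude.Def_Coh
import Groth.Agent.Lib.Helper5.BC.FMConv
import Groth.Agent.Lib.Helper5.RpushCl.RpushClassic
import Groth.Agent.Lib.Helper5.Stalk.FlatPull

/-!
# Flat base change for the classical higher direct images (helper5)
-/
set_option autoImplicit false
set_option linter.unusedSectionVars false
set_option linter.unusedVariables false
set_option linter.style.haveILetI false
universe u
open CategoryTheory CategoryTheory.Limits AlgebraicGeometry
attribute [local instance] HasDerivedCategory.standard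

namespace Groth.Agent.Lib.Helper5.BC

open Groth.Agent.Lib.Helper5.QC Groth.Agent.Lib.Helper5.LpullLib
open Groth.Agent.Lib.Helper5.StalkAdj Groth.Agent.Lib.Helper5.RpushClassic

section FlatHD

variable {X Y : Scheme.{u}} (f : X ⟶ Y) [Flat f]

/-- homology commutes with the termwise pullback along a flat morphism -/
noncomputable def homologyPullCxIso (C : CochainComplex Y.Modules ℤ) (i : ℤ) :
    ((FMK.cxPull f).obj C).homology i ≅ (Scheme.Modules.pullback f).obj (C.homology i) :=
  (C.sc i).mapHomologyIso (Scheme.Modules.pullback f)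

/-- the cohomology sheaves of `Lf^* E` for flat `f` -/
theorem nonempty_HD_Lpull_iso (E : DCoh.D Y) (i : ℤ) :
    Nonempty (DCoh.HD ((DCoh.Lpull f).obj E) i ≅ (Scheme.Modules.pullback f).obj (DCoh.HD E i)) := by
  let C : CochainComplex Y.Modules ℤ := DerivedCategory.Q.objPreimage E
  let e : DerivedCategory.Q.obj C ≅ E := DerivedCategory.Q.objObjPreimageIso E
  refine ⟨(DerivedCategory.homologyFunctor X.Modules i).mapIso
      ((DCoh.Lpull f).mapIso e.symm ≪≫ flatPullIso f C) ≪≫
    (DerivedCategory.homologyFunctorFactors X.Modules i).app ((FMK.cxPull f).obj C) ≪≫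
    homologyPullCxIso f C i ≪≫
    (Scheme.Modules.pullback f).mapIso
      (((DerivedCategory.homologyFunctorFactors Y.Modules i).app C).symm ≪≫
        (DerivedCategory.homologyFunctor Y.Modules i).mapIso e)⟩

/-- `Lf^* (M[0]) ≅ (f^* M)[0]` for flat `f` -/
noncomputable def lpullInDIso (M : Y.Modules) :
    (DCoh.Lpull f).obj (DCoh.inD Y M) ≅ DCoh.inD X ((Scheme.Modules.pullback f).obj M) :=
  (DCoh.Lpull f).mapIso ((DerivedCategory.singleFunctorIsoCompQ Y.Modules 0).app M) ≪≫
    flatPullIso f ((CochainComplex.singleFunctor Y.Modules 0).obj M) ≪≫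
    DerivedCategory.Q.mapIso
      ((HomologicalComplex.singleMapHomologicalComplex (Scheme.Modules.pullback f)
        (ComplexShape.up ℤ) 0).app M) ≪≫
    ((DerivedCategory.singleFunctorIsoCompQ X.Modules 0).app _).symm

end FlatHD

section Main

variable {X S X' S' : Scheme.{u}} (f : X ⟶ S) (g : S' ⟶ S) (g' : X' ⟶ X) (f' : X' ⟶ S')

/-- **flat base change for the classical higher direct images** (existence of an isomorphism) -/
theorem nonempty_rpush_flat_baseChange (h : IsPullback g' f' f g) [QuasiCompact f]
    [QuasiSeparated f] [Flat g] [HasInjectiveResolutions X.Modules]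
    [HasInjectiveResolutions X'.Modules] (M : X.Modules) [M.IsQuasicoherent] (i : ℕ) :
    Nonempty ((Scheme.Modules.pullback g).obj ((Coh.Rpush f i).obj M) ≅
      (Coh.Rpush f' i).obj ((Scheme.Modules.pullback g').obj M)) := by
  haveI : Flat g' := MorphismProperty.of_isPullback (P := @Flat) h.flip inferInstance
  haveI hθ : IsIso ((theta h.w).app (DCoh.inD X M)) :=
    isIso_theta_of_flat h (DCoh.inD X M) (isQCohD_inD M)
  obtain ⟨e2⟩ := nonempty_HD_Lpull_iso g ((DCoh.Rpush f).obj (DCoh.inD X M)) (i : ℤ)
  exact ⟨(Scheme.Modules.pullback g).mapIso (rpushIsoHD f M i) ≪≫ e2.symm ≪≫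
    (DerivedCategory.homologyFunctor S'.Modules (i : ℤ)).mapIso
      (asIso ((theta h.w).app (DCoh.inD X M)) ≪≫ (DCoh.Rpush f').mapIso (lpullInDIso g' M)) ≪≫
    (rpushIsoHD f' ((Scheme.Modules.pullback g').obj M) i).symm⟩

end Main

end Groth.Agent.Lib.Helper5.BC
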