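import Mathlib
import Groth.Prelude.Def_DualFM
import Groth.Agent.Lib.Helper5.BC.FMBC
import Groth.Agent.Lib.Helper5.BC.AffTor
import Groth.Agent.Lib.Helper5.TorInd.FlatPushout

/-!
# Base change for the diagonal of a flat separated morphism (helper5)

For `a : X ⟶ S` flat and separated and `g : S₁ ⟶ S` arbitrary, with `X₁ = X ×_S S₁`, the square
`X₁ ⟶ X₁ ×_{S₁} X₁`, `X ⟶ X ×_S X` (diagonals) is cartesian and tor independent, hence base
change holds for it.
-/
set_option autoImplicit false
set_option linter.unusedSectionVars false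
set_option linter.unusedVariables false
set_option linter.style.haveILetI false
universe u
open CategoryTheory CategoryTheory.Limits AlgebraicGeometry
attribute [local instance] HasDerivedCategory.standard

namespace Groth.Agent.Lib.Helper5.BC

open Groth.Agent.Lib.Helper5.TorFlat Groth.Agent.Lib.Helper5.QC

variable {S S₁ X : Scheme.{u}} (a : X ⟶ S) (g : S₁ ⟶ S)

/-- the diagonal of the base change is the base change of the diagonal -/
theorem isPullback_diag :
    IsPullback (pullback.fst a g) (pullback.diagonal (pullback.snd a g)) (pullback.diagonal a)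
      (hMap a a g) := by
  have t : IsPullback (pullback.snd (pullback.snd a g) (pullback.snd a g)) (hMap a a g)
      (pullback.fst a g) (pullback.snd a a) := (isPullback_hMap a a g).flip
  have s : IsPullback (pullback.diagonal (pullback.snd a g) ≫
      pullback.snd (pullback.snd a g) (pullback.snd a g)) (pullback.fst a g) (pullback.fst a g)
      (pullback.diagonal a ≫ pullback.snd a a) := by
    rw [pullback.diagonal_snd, pullback.diagonal_snd]
    exact IsPullback.of_horiz_isIso ⟨by simp⟩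
  have p : pullback.diagonal (pullback.snd a g) ≫ hMap a a g =
      pullback.fst a g ≫ pullback.diagonal a := by
    apply pullback.hom_ext
    · rw [Category.assoc, hMap_fst, pullback.diagonal_fst_assoc, Category.assoc,
        pullback.diagonal_fst, Category.comp_id]
    · rw [Category.assoc, hMap_snd, pullback.diagonal_snd_assoc, Category.assoc,
        pullback.diagonal_snd, Category.comp_id]
  exact (IsPullback.of_right s p t).flip

/-- tor independence of the diagonal square on suitable affine opens -/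
theorem torP_diag [Flat a] {US : X.Opens} (hUS : IsAffineOpen US)
    {UT : (pullback a g).Opens} (hUT : IsAffineOpen UT) (hUST : UT ≤ (pullback.fst a g) ⁻¹ᵁ US)
    {UX : (pullback a a).Opens} (hUX : IsAffineOpen UX)
    (hUSX : UX ≤ (pullback.snd a a) ⁻¹ᵁ US)
    {UY : (pullback (pullback.snd a g) (pullback.snd a g)).Opens}
    (hUY : UY = (hMap a a g) ⁻¹ᵁ UX ⊓
      (pullback.snd (pullback.snd a g) (pullback.snd a g)) ⁻¹ᵁ UT)
    {V : X.Opens} (hV : IsAffineOpen V) (hVU : V ≤ (pullback.diagonal a) ⁻¹ᵁ UX)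
    (hle : UY ≤ (hMap a a g) ⁻¹ᵁ UX) (i : ℕ) (hi : 0 < i) :
    TorP ((pullback.diagonal a).appLE UX V hVU) ((hMap a a g).appLE UX UY hle) i := by
  have H := isPullback_hMap a a g
  haveI := isIso_pushoutSection_of_isAffineOpen H hUST hUSX hUY hUS hUT hUX
  have hpo := (isIso_pushoutSection_iff H hUST hUSX hUY).1 inferInstance
  refine torP_of_isPushout_flat hpo ((pullback.diagonal a).appLE UX V hVU) ?_ ?_ i hi
  · exact Flat.flat_appLE (pullback.snd a a) hUS hUX hUSX
  · rw [Scheme.Hom.appLE_comp_appLE]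
    have key : ∀ (q : X ⟶ X) (hq : q = 𝟙 X) (e : V ≤ q ⁻¹ᵁ US), (q.appLE US V e).hom.Flat := by
      intro q hq e
      subst hq
      exact Flat.flat_appLE (𝟙 X) hUS hV e
    exact key _ (pullback.diagonal_snd a) _

/-- **base change for the diagonal** of a flat separated morphism -/
theorem isIso_theta_diag [Flat a] [IsSeparated a] (E : DCoh.D X) (hE : DCoh.IsQCohD E) :
    IsIso ((theta (isPullback_diag a g).w).app E) := by
  apply isIso_theta_of_local (isPullback_diag a g) E
  intro w₁
  have H := isPullback_hMap a a g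
  obtain ⟨US, hUS, UT, hUT, hx₁, hUST⟩ := exists_affine_nbhds (pullback.fst a g)
    ((pullback.snd (pullback.snd a g) (pullback.snd a g)) w₁)
  have hw : (hMap a a g) w₁ ∈ (pullback.snd a a) ⁻¹ᵁ US := by
    have h1 := congrArg (fun t : pullback (pullback.snd a g) (pullback.snd a g) ⟶ X => t.base w₁)
      (hMap_snd a a g)
    change (pullback.snd a a) ((hMap a a g) w₁) ∈ US
    have h2 : (pullback.snd a a) ((hMap a a g) w₁) =
        (pullback.fst a g) ((pullback.snd (pullback.snd a g) (pullback.snd a g)) w₁) := h1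
    rw [h2]
    exact hUST hx₁
  obtain ⟨UX, hUX, hwUX, hUSX⟩ : ∃ UX : (pullback a a).Opens, IsAffineOpen UX ∧
      (hMap a a g) w₁ ∈ UX ∧ UX ≤ (pullback.snd a a) ⁻¹ᵁ US := by
    obtain ⟨_, ⟨UX, hUX : IsAffineOpen UX, rfl⟩, hwUX, hUXle⟩ :=
      (pullback a a).isBasis_affineOpens.exists_subset_of_mem_open hw
        ((pullback.snd a a) ⁻¹ᵁ US).2
    exact ⟨UX, hUX, hwUX, hUXle⟩
  let UY : (pullback (pullback.snd a g) (pullback.snd a g)).Opens :=
    (hMap a a g) ⁻¹ᵁ UX ⊓ (pullback.snd (pullback.snd a g) (pullback.snd a g)) ⁻¹ᵁ UT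
  have hUYaff : IsAffineOpen UY := by
    haveI : IsAffine (US : Scheme.{u}) := hUS
    haveI : IsAffine (UT : Scheme.{u}) := hUT
    haveI : IsAffine (UX : Scheme.{u}) := hUX
    exact .of_isIso (Scheme.Hom.isPullback_resLE H hUST hUSX (UY := UY) rfl).isoPullback.hom
  have hle : UY ≤ (hMap a a g) ⁻¹ᵁ UX := inf_le_left
  refine ⟨UX, UY, hle, ⟨hwUX, hx₁⟩, ?_⟩
  haveI : IsAffine (UX : Scheme.{u}) := hUX
  haveI : IsAffine (UY : Scheme.{u}) := hUYaff
  have hVaff : IsAffineOpen ((pullback.diagonal a) ⁻¹ᵁ UX) := hUX.preimage (pullback.diagonal a)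
  haveI : IsAffine (((pullback.diagonal a) ⁻¹ᵁ UX : X.Opens) : Scheme.{u}) := hVaff
  apply isIso_theta_affine_of_tor (isPullback_restrict (isPullback_diag a g) UX UY hle)
  · intro i hi
    have e1 : UX.ι ''ᵁ ⊤ = UX := Scheme.Opens.ι_image_top UX
    have e2 : UY.ι ''ᵁ ⊤ = UY := Scheme.Opens.ι_image_top UY
    have e3 : ((pullback.diagonal a) ⁻¹ᵁ UX).ι ''ᵁ ⊤ = (pullback.diagonal a) ⁻¹ᵁ UX :=
      Scheme.Opens.ι_image_top _
    have h0 := torP_diag a g hUS hUT hUST (UX := UX.ι ''ᵁ ⊤) (by rw [e1]; exact hUX)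
      (by rw [e1]; exact hUSX) (UY := UY.ι ''ᵁ ⊤) (by rw [e1, e2])
      (V := ((pullback.diagonal a) ⁻¹ᵁ UX).ι ''ᵁ ⊤) (by rw [e3]; exact hVaff)
      (by rw [e1, e3]) (by rw [e1, e2]; exact hle) i hi
    rw [← morphismRestrict_appLE (pullback.diagonal a) UX ⊤ ⊤ le_top,
      ← Scheme.Hom.resLE_appLE (hMap a a g) hle ⊤ ⊤ le_top] at h0
    rw [appLE_top_eq_appTop, appLE_top_eq_appTop] at h0
    exact h0
  · exact isQCohD_Lpull _ _ hE

end Groth.Agent.Lib.Helper5.BC
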