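import Mathlib
import Groth.Prelude.Def_DualFM
import Groth.Agent.Lib.Helper5.BC.FMConv
import Groth.Agent.Lib.Helper5.BC.FMBC
import Groth.Agent.Lib.Helper5.BC.FlatLeft
import Groth.Agent.Lib.Helper5.BC.ThetaPaste
import Groth.Agent.Lib.Helper5.ProjFX.Nat
import Groth.Agent.Lib.Helper5.LTen.AssocD

/-!
# Composition of Fourier–Mukai functors (helper5)
-/
set_option autoImplicit false
set_option linter.unusedSectionVars false
set_option linter.unusedVariables false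
set_option linter.style.haveILetI false
universe u
open CategoryTheory CategoryTheory.Limits AlgebraicGeometry
attribute [local instance] HasDerivedCategory.standard

namespace Groth.Agent.Lib.Helper5.BC

open Groth.Agent.Lib.Helper5.QC Groth.Agent.Lib.Helper5.LpullLib Groth.Agent.Lib.Helper5.ProjFX
  Groth.Agent.Lib.Helper5.LTenCongr

/-- congruence for `Rf_*` -/
noncomputable def rcongr {X Y : Scheme.{u}} {f f' : X ⟶ Y} (h : f = f') :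
    DCoh.Rpush f ≅ DCoh.Rpush f' := by
  subst h
  exact Iso.refl _

/-- whiskering an isomorphism on a full subcategory with a functor landing in it -/
noncomputable def whiskerOfι {C C' D : Type*} [Category C] [Category C'] [Category D]
    {P : ObjectProperty C} {F G : C ⥤ D} (e : P.ι ⋙ F ≅ P.ι ⋙ G) (H : C' ⥤ C)
    (hH : ∀ c, P (H.obj c)) : H ⋙ F ≅ H ⋙ G :=
  Functor.isoWhiskerLeft (P.lift H hH) e

section Main

variable {S X Y Z : Scheme.{u}} (a : X ⟶ S) (b : Y ⟶ S) (c : Z ⟶ S)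
  [QuasiCompact a] [QuasiSeparated a] [QuasiCompact b] [QuasiSeparated b]
  [QuasiCompact c] [QuasiSeparated c]

/-- base change for the square defining the triple product, in the two flat cases -/
theorem isIso_theta_T (hflat : Flat a ∨ Flat c) (E : DCoh.D (pullback a b))
    (hE : DCoh.IsQCohD E) :
    IsIso ((theta (IsPullback.of_hasPullback (pullback.snd a b) (pullback.fst b c)).w).app E) := by
  rcases hflat with h | h
  · haveI := h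
    haveI : Flat (pullback.snd a b) := inferInstance
    exact isIso_theta_of_flat_left
      (IsPullback.of_hasPullback (pullback.snd a b) (pullback.fst b c)) E hE
  · haveI := h
    haveI : Flat (pullback.fst b c) := inferInstance
    exact isIso_theta_of_flat
      (IsPullback.of_hasPullback (pullback.snd a b) (pullback.fst b c)) E hE

/-- **composition of Fourier–Mukai functors** (the flat cases) -/
theorem nonempty_fm_comp (hflat : Flat a ∨ Flat c)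
    (K : CochainComplex (pullback a b).Modules ℤ) (M : CochainComplex (pullback b c).Modules ℤ)
    (hK : DCoh.IsQCohD (DCoh.toD _ K)) (hM : DCoh.IsQCohD (DCoh.toD _ M))
    [DCoh.HasLTensorCx K] [DCoh.HasLTensorCx M]
    (L : CochainComplex (FMK.T a b c).Modules ℤ) [DCoh.HasLTensorCx L]
    (hL : Nonempty (DCoh.toD _ L ≅ (DCoh.Lpull (FMK.p23 a b c)).obj (DCoh.toD _ M)))
    (N : CochainComplex (pullback a c).Modules ℤ) [DCoh.HasLTensorCx N]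
    (hN : Nonempty (DCoh.toD _ N ≅ FMK.conv a b c K L)) :
    Nonempty (ObjectProperty.ι (DCoh.IsQCohD (X := X)) ⋙ FMK.phi a c N ≅
      ObjectProperty.ι (DCoh.IsQCohD (X := X)) ⋙ FMK.phi a b K ⋙ FMK.phi b c M) := by
  -- notation
  let ι := ObjectProperty.ι (DCoh.IsQCohD (X := X))
  let p₁ := pullback.fst a b
  let p₂ := pullback.snd a b
  let q₁ := pullback.fst b c
  let q₂ := pullback.snd b c
  let r₁ := pullback.fst a c
  let r₂ := pullback.snd a c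
  let p12 := FMK.p12 a b c
  let p23 := FMK.p23 a b c
  let p13 := FMK.p13 a b c
  haveI : QuasiCompact p13 := quasiCompact_p13 a b c
  haveI : QuasiSeparated p13 := quasiSeparated_p13 a b c
  haveI : QuasiCompact p23 := inferInstanceAs (QuasiCompact (pullback.snd _ _))
  haveI : QuasiSeparated p23 := inferInstanceAs (QuasiSeparated (pullback.snd _ _))
  obtain ⟨eL⟩ := hL
  obtain ⟨eN⟩ := hN
  have hLq : DCoh.IsQCohD (DCoh.toD _ L) :=
    isQCohD_of_iso eL.symm (isQCohD_Lpull p23 _ hM)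
  -- a complex representing `Lp12^* K`
  let K' : CochainComplex (FMK.T a b c).Modules ℤ :=
    DerivedCategory.Q.objPreimage ((DCoh.Lpull p12).obj (DCoh.toD _ K))
  let eK' : DCoh.toD _ K' ≅ (DCoh.Lpull p12).obj (DCoh.toD _ K) :=
    DerivedCategory.Q.objObjPreimageIso _
  haveI : DCoh.HasLTensorCx K' := Groth.Agent.Lib.Helper5.LTenAll.hasLTensorCx K'
  have hK'q : DCoh.IsQCohD (DCoh.toD _ K') := isQCohD_of_iso eK'.symm (isQCohD_Lpull p12 _ hK)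
  -- a K-flat resolution of `L`
  obtain ⟨L₀, l, hL₀, hl⟩ := Groth.Agent.Lib.Helper5.ProjF3.kflat_res L
  haveI : DCoh.HasLTensorCx L₀ := Groth.Agent.Lib.Helper5.LTenAll.hasLTensorCx L₀
  let G' : CochainComplex (FMK.T a b c).Modules ℤ := (DCoh.tensorCx.obj K').obj L₀
  haveI : DCoh.HasLTensorCx G' := Groth.Agent.Lib.Helper5.LTenAll.hasLTensorCx G'
  let eLL : DCoh.LTensorCx L₀ ≅ DCoh.LTensorCx L := ltensorIsoOfQuasiIso l hl
  -- `Q G' ≅ Lp12^* K ⊗^L L`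
  let eG' : DCoh.toD _ G' ≅ (DCoh.LTensorCx L).obj ((DCoh.Lpull p12).obj (DCoh.toD _ K)) :=
    (Groth.Agent.Lib.Helper5.LTenDer.ltensorObjIso L₀ hL₀ K').symm ≪≫ eLL.app _ ≪≫
      (DCoh.LTensorCx L).mapIso eK'
  have hG'q : DCoh.IsQCohD (DCoh.toD _ G') :=
    isQCohD_of_iso eG'.symm (isQCohD_LTensorCx L hLq _ (isQCohD_Lpull p12 _ hK))
  -- the functors
  let A0 : (DCoh.IsQCohD (X := X)).FullSubcategory ⥤ DCoh.D (pullback a b) := ι ⋙ DCoh.Lpull p₁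
  let A1 : (DCoh.IsQCohD (X := X)).FullSubcategory ⥤ DCoh.D (pullback a b) :=
    A0 ⋙ DCoh.LTensorCx K
  have hA1 : ∀ E, DCoh.IsQCohD (A1.obj E) := fun E =>
    isQCohD_LTensorCx K hK _ (isQCohD_Lpull p₁ E.obj E.property)
  let A2 : (DCoh.IsQCohD (X := X)).FullSubcategory ⥤ DCoh.D (FMK.T a b c) := A1 ⋙ DCoh.Lpull p12
  have hA2 : ∀ E, DCoh.IsQCohD (A2.obj E) := fun E => isQCohD_Lpull p12 _ (hA1 E)
  let B0 : (DCoh.IsQCohD (X := X)).FullSubcategory ⥤ DCoh.D (pullback a c) := ι ⋙ DCoh.Lpull r₁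
  have hB0 : ∀ E, DCoh.IsQCohD (B0.obj E) := fun E => isQCohD_Lpull r₁ E.obj E.property
  -- step 1: base change
  let θ := theta (IsPullback.of_hasPullback (pullback.snd a b) (pullback.fst b c)).w
  haveI : IsIso (Functor.whiskerLeft A1 θ) := by
    haveI : ∀ E, IsIso ((Functor.whiskerLeft A1 θ).app E) := fun E =>
      isIso_theta_T a b c hflat _ (hA1 E)
    exact NatIso.isIso_of_isIso_app _
  let e1 : A1 ⋙ (DCoh.Rpush p₂ ⋙ DCoh.Lpull q₁) ≅ A1 ⋙ (DCoh.Lpull p12 ⋙ DCoh.Rpush p23) :=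
    asIso (Functor.whiskerLeft A1 θ)
  -- step 2: the projection formula for `p23`
  obtain ⟨pfX⟩ := nonempty_projFormula_natX p23 M hM L ⟨eL⟩
  let e2 : A2 ⋙ (DCoh.Rpush p23 ⋙ DCoh.LTensorCx M) ≅ A2 ⋙ (DCoh.LTensorCx L ⋙ DCoh.Rpush p23) :=
    whiskerOfι pfX A2 hA2
  -- step 3: pullback and tensor product
  obtain ⟨e3⟩ := nonempty_lpull_ltensor_nat p12 K K' ⟨eK'⟩
  -- step 4: associativity
  let e4 : DCoh.LTensorCx K' ⋙ DCoh.LTensorCx L ≅ DCoh.LTensorCx G' :=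
    Functor.isoWhiskerLeft (DCoh.LTensorCx K') eLL.symm ≪≫
      Groth.Agent.Lib.Helper5.AssocD.τ K' L₀ hL₀
  -- step 5: composites
  let e5L : DCoh.Lpull p₁ ⋙ DCoh.Lpull p12 ≅ DCoh.Lpull r₁ ⋙ DCoh.Lpull p13 :=
    cL p12 p₁ ≪≫ lcongr (FMK.p13_fst a b c).symm ≪≫ (cL p13 r₁).symm
  let e5R : DCoh.Rpush p23 ⋙ DCoh.Rpush q₂ ≅ DCoh.Rpush p13 ⋙ DCoh.Rpush r₂ :=
    (rC p23 q₂).symm ≪≫ rcongr (FMK.p13_snd a b c).symm ≪≫ rC p13 r₂
  -- step 6: the projection formula for `p13`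
  obtain ⟨pfY⟩ := nonempty_projFormula_natY p13 G' hG'q N
    ⟨eN ≪≫ (DCoh.Rpush p13).mapIso eG'.symm⟩
  let e6 : B0 ⋙ (DCoh.Lpull p13 ⋙ DCoh.LTensorCx G' ⋙ DCoh.Rpush p13) ≅ B0 ⋙ DCoh.LTensorCx N :=
    whiskerOfι pfY B0 hB0
  -- assembly
  let s1 : ι ⋙ FMK.phi a b K ⋙ FMK.phi b c M ≅
      A1 ⋙ (DCoh.Lpull p12 ⋙ DCoh.Rpush p23) ⋙ (DCoh.LTensorCx M ⋙ DCoh.Rpush q₂) :=
    Functor.isoWhiskerRight e1 (DCoh.LTensorCx M ⋙ DCoh.Rpush q₂)
  let s2 : A1 ⋙ (DCoh.Lpull p12 ⋙ DCoh.Rpush p23) ⋙ (DCoh.LTensorCx M ⋙ DCoh.Rpush q₂) ≅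
      A2 ⋙ (DCoh.LTensorCx L ⋙ DCoh.Rpush p23) ⋙ DCoh.Rpush q₂ :=
    Functor.isoWhiskerRight e2 (DCoh.Rpush q₂)
  let s3 : A2 ⋙ (DCoh.LTensorCx L ⋙ DCoh.Rpush p23) ⋙ DCoh.Rpush q₂ ≅
      A0 ⋙ (DCoh.Lpull p12 ⋙ DCoh.LTensorCx K') ⋙ DCoh.LTensorCx L ⋙ DCoh.Rpush p23 ⋙
        DCoh.Rpush q₂ :=
    Functor.isoWhiskerLeft A0 (Functor.isoWhiskerRight e3
      (DCoh.LTensorCx L ⋙ DCoh.Rpush p23 ⋙ DCoh.Rpush q₂))
  let s4 : A0 ⋙ (DCoh.Lpull p12 ⋙ DCoh.LTensorCx K') ⋙ DCoh.LTensorCx L ⋙ DCoh.Rpush p23 ⋙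
        DCoh.Rpush q₂ ≅
      A0 ⋙ DCoh.Lpull p12 ⋙ DCoh.LTensorCx G' ⋙ DCoh.Rpush p23 ⋙ DCoh.Rpush q₂ :=
    Functor.isoWhiskerLeft (A0 ⋙ DCoh.Lpull p12) (Functor.isoWhiskerRight e4
      (DCoh.Rpush p23 ⋙ DCoh.Rpush q₂))
  let s5 : A0 ⋙ DCoh.Lpull p12 ⋙ DCoh.LTensorCx G' ⋙ DCoh.Rpush p23 ⋙ DCoh.Rpush q₂ ≅
      B0 ⋙ DCoh.Lpull p13 ⋙ DCoh.LTensorCx G' ⋙ DCoh.Rpush p13 ⋙ DCoh.Rpush r₂ :=
    Functor.isoWhiskerLeft ι (Functor.isoWhiskerRight e5L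
        (DCoh.LTensorCx G' ⋙ DCoh.Rpush p23 ⋙ DCoh.Rpush q₂)) ≪≫
      Functor.isoWhiskerLeft (B0 ⋙ DCoh.Lpull p13 ⋙ DCoh.LTensorCx G') e5R
  let s6 : B0 ⋙ DCoh.Lpull p13 ⋙ DCoh.LTensorCx G' ⋙ DCoh.Rpush p13 ⋙ DCoh.Rpush r₂ ≅
      ι ⋙ FMK.phi a c N :=
    Functor.isoWhiskerRight e6 (DCoh.Rpush r₂)
  exact ⟨(s1 ≪≫ s2 ≪≫ s3 ≪≫ s4 ≪≫ s5 ≪≫ s6).symm⟩

end Main

end Groth.Agent.Lib.Helper5.BC
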