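import Mathlib
import Groth.Prelude.Def_DualFM
import Groth.Agent.Lib.Helper5.BC.FMComp
import Groth.Agent.Lib.Helper5.FMId.Main
import Groth.Agent.Lib.Helper5.Perf.CountHomAff

/-!
# Relative Fourier–Mukai equivalences on `D_QCoh` (helper5)
-/
set_option autoImplicit false
set_option linter.unusedSectionVars false
set_option linter.unusedVariables false
set_option linter.style.haveILetI false
universe u
open CategoryTheory CategoryTheory.Limits AlgebraicGeometry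
attribute [local instance] HasDerivedCategory.standard

namespace Groth.Agent.Lib.Helper5.BC

open Groth.Agent.Lib.Helper5.QC Groth.Agent.Lib.Helper5.LpullLib Groth.Agent.Lib.Helper5.FMId
  Groth.Agent.Lib.Helper5.ProjF2 Groth.Agent.Lib.Helper5.RHomQC

variable {S X Y : Scheme.{u}} (a : X ⟶ S) (b : Y ⟶ S)
  [QuasiCompact a] [QuasiSeparated a] [QuasiCompact b] [QuasiSeparated b]

/-- Fourier–Mukai functors preserve quasi-coherence of cohomology -/
theorem isQCohD_phi (K : CochainComplex (pullback a b).Modules ℤ)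
    (hK : DCoh.IsQCohD (DCoh.toD _ K)) [DCoh.HasLTensorCx K] (M : DCoh.D X)
    (hM : DCoh.IsQCohD M) : DCoh.IsQCohD ((FMK.phi a b K).obj M) :=
  isQCohD_rpush (pullback.snd a b) _
    (isQCohD_LTensorCx K hK _ (isQCohD_Lpull (pullback.fst a b) M hM))

/-- a one-sided inverse kernel -/
theorem nonempty_fm_comp_diag [IsSeparated a] [Flat a]
    (K : CochainComplex (pullback a b).Modules ℤ) (hK : DCoh.IsQCohD (DCoh.toD _ K))
    [DCoh.HasLTensorCx K]
    (K' : CochainComplex (pullback b a).Modules ℤ) (hK' : DCoh.IsQCohD (DCoh.toD _ K'))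
    [DCoh.HasLTensorCx K'] [DCoh.HasLTensorCx ((FMK.cxPull (FMK.p23 a b a)).obj K')]
    (hd : Nonempty (FMK.diagO a ≅ FMK.conv a b a K ((FMK.cxPull (FMK.p23 a b a)).obj K'))) :
    Nonempty (ObjectProperty.ι (DCoh.IsQCohD (X := X)) ⋙ FMK.phi a b K ⋙ FMK.phi b a K' ≅
      ObjectProperty.ι (DCoh.IsQCohD (X := X))) := by
  obtain ⟨ed⟩ := hd
  haveI : Flat (FMK.p23 a b a) := inferInstanceAs (Flat (pullback.snd _ _))
  let N : CochainComplex (pullback a a).Modules ℤ := (pushCx (pullback.diagonal a)).obj (OCx X 0)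
  haveI : DCoh.HasLTensorCx N := Groth.Agent.Lib.Helper5.LTenAll.hasLTensorCx N
  obtain ⟨e1⟩ := nonempty_fm_comp a b a (Or.inl inferInstance) K K' hK hK'
    ((FMK.cxPull (FMK.p23 a b a)).obj K') ⟨(flatPullIso (FMK.p23 a b a) K').symm⟩
    N ⟨diagOIso a ≪≫ ed⟩
  obtain ⟨e2⟩ := nonempty_fm_diag a N ⟨diagOIso a⟩
  exact ⟨e1.symm ≪≫ Functor.isoWhiskerLeft _ e2 ≪≫ Functor.rightUnitor _⟩

/-- **a Fourier–Mukai kernel with a two-sided inverse kernel induces an equivalence on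
`D_QCoh`** -/
theorem isEquivalence_phiOn [IsSeparated a] [Flat a] [IsSeparated b] [Flat b]
    (K : CochainComplex (pullback a b).Modules ℤ) (hK : DCoh.IsQCohD (DCoh.toD _ K))
    [DCoh.HasLTensorCx K]
    (K' : CochainComplex (pullback b a).Modules ℤ) (hK' : DCoh.IsQCohD (DCoh.toD _ K'))
    [DCoh.HasLTensorCx K'] [DCoh.HasLTensorCx ((FMK.cxPull (FMK.p23 a b a)).obj K')]
    [DCoh.HasLTensorCx ((FMK.cxPull (FMK.p23 b a b)).obj K)]
    (hd₁ : Nonempty (FMK.diagO a ≅ FMK.conv a b a K ((FMK.cxPull (FMK.p23 a b a)).obj K')))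
    (hd₂ : Nonempty (FMK.diagO b ≅ FMK.conv b a b K' ((FMK.cxPull (FMK.p23 b a b)).obj K)))
    (h : ∀ M : DCoh.D X, DCoh.IsQCohD M → DCoh.IsQCohD ((FMK.phi a b K).obj M)) :
    (FMK.phiOn a b K DCoh.IsQCohD DCoh.IsQCohD h).IsEquivalence := by
  have h' : ∀ N : DCoh.D Y, DCoh.IsQCohD N → DCoh.IsQCohD ((FMK.phi b a K').obj N) :=
    fun N hN => isQCohD_phi b a K' hK' N hN
  let F := FMK.phiOn a b K DCoh.IsQCohD DCoh.IsQCohD h
  let G := FMK.phiOn b a K' DCoh.IsQCohD DCoh.IsQCohD h'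
  obtain ⟨u⟩ := nonempty_fm_comp_diag a b K hK K' hK' hd₁
  obtain ⟨v⟩ := nonempty_fm_comp_diag b a K' hK' K hK hd₂
  let η : F ⋙ G ≅ 𝟭 _ :=
    Functor.fullyFaithfulCancelRight (ObjectProperty.ι (DCoh.IsQCohD (X := X)))
      (show (F ⋙ G) ⋙ ObjectProperty.ι (DCoh.IsQCohD (X := X)) ≅
        𝟭 _ ⋙ ObjectProperty.ι (DCoh.IsQCohD (X := X)) from u ≪≫ (Functor.leftUnitor _).symm)
  let ε : G ⋙ F ≅ 𝟭 _ :=
    Functor.fullyFaithfulCancelRight (ObjectProperty.ι (DCoh.IsQCohD (X := Y)))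
      (show (G ⋙ F) ⋙ ObjectProperty.ι (DCoh.IsQCohD (X := Y)) ≅
        𝟭 _ ⋙ ObjectProperty.ι (DCoh.IsQCohD (X := Y)) from v ≪≫ (Functor.leftUnitor _).symm)
  exact CategoryTheory.Functor.IsEquivalence.mk' G η.symm ε

end Groth.Agent.Lib.Helper5.BC
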