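import Mathlib
import Groth.Agent.Lib.Helper5.BC.AffFlat
import Groth.Agent.Lib.Helper5.CxOX.SuppAdj

/-!
# Flat pullback commutes with `RΓ_Z` (helper5)
-/
set_option autoImplicit false
set_option linter.unusedSectionVars false
set_option linter.unusedVariables false
set_option linter.style.haveILetI false
universe u
open CategoryTheory CategoryTheory.Limits AlgebraicGeometry Pretriangulated
attribute [local instance] HasDerivedCategory.standard

namespace Groth.Agent.Lib.Helper5.BC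

open Groth.Agent.Lib.Helper5.LpullLib Groth.Agent.Helper3.KInjDer
open Groth.Agent.Lib.Helper5.QC Groth.Agent.Lib.Helper5.SuppAdj
open Groth.Agent.Lib.Helper5.ProjF3 Groth.Agent.Lib.Helper5.RpushPerf
open Groth.Agent.Lib.Helper5.BvdB Groth.Agent.Lib.Helper5.CxTri

variable {X Y : Scheme.{u}} (f : X ⟶ Y) (U : Y.Opens)

/-- the derived pullback of an object vanishing on `U` vanishes on `f⁻¹ U` -/
theorem vanishOn_lpull (A : DCoh.D Y) (hA : VanishOn A (U : Set Y)) :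
    VanishOn ((DCoh.Lpull f).obj A) ((f ⁻¹ᵁ U : X.Opens) : Set X) := by
  have h1 : IsZero ((DCoh.Lpull U.ι).obj A) := by
    rw [isZero_lpull_iff_vanishOn, range_opens_ι]
    exact hA
  have h2 : IsZero ((DCoh.Lpull (f ∣_ U)).obj ((DCoh.Lpull U.ι).obj A)) :=
    weakTri_isZero_obj (weakTri_lpull (f ∣_ U)) _ h1
  have w : (f ∣_ U) ≫ U.ι = (f ⁻¹ᵁ U).ι ≫ f := (isPullback_morphismRestrict f U).w
  have e := (beta w).app A
  have h3 : IsZero ((DCoh.Lpull (f ⁻¹ᵁ U).ι).obj ((DCoh.Lpull f).obj A)) :=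
    IsZero.of_iso h2 e
  rw [isZero_lpull_iff_vanishOn, range_opens_ι] at h3
  exact h3

variable [Flat f] [QuasiCompact U.ι]

/-- `Lf^* Rj_* j^* K` is right orthogonal to objects vanishing on `f⁻¹ U` -/
theorem orth_lpull_rpush (K : DCoh.D Y) (hK : DCoh.IsQCohD K) :
    Orth (fun N : DCoh.D X => VanishOn N ((f ⁻¹ᵁ U : X.Opens) : Set X))
      ((DCoh.Lpull f).obj ((DCoh.Rpush U.ι).obj ((DCoh.restrictD U.ι).obj K))) := by
  have hsq := isPullback_morphismRestrict f U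
  haveI := isIso_theta_of_flat hsq ((DCoh.restrictD U.ι).obj K) (isQCohD_restrictD U K hK)
  exact Orth.of_iso (asIso ((theta hsq.w).app ((DCoh.restrictD U.ι).obj K))).symm
    (orth_rpush_opens (f ⁻¹ᵁ U) _)

variable [CxOX.HasRgammaZ U.ι] [CxOX.HasRgammaZ (f ⁻¹ᵁ U).ι]

/-- maps from objects vanishing on `f⁻¹ U` into `Lf^* RΓ_Z K` and into `Lf^* K` agree -/
theorem bijective_comp_lpull_rgammaToId (K : DCoh.D Y) (hK : DCoh.IsQCohD K) (T : DCoh.D X)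
    (hT : VanishOn T ((f ⁻¹ᵁ U : X.Opens) : Set X)) :
    Function.Bijective (fun φ : T ⟶ (DCoh.Lpull f).obj ((CxOX.RgammaZ U.ι).obj K) =>
      φ ≫ (DCoh.Lpull f).map ((CxOX.RgammaZToId U.ι).app K)) := by
  obtain ⟨g, δ, hTr⟩ := exists_triangle U K
  obtain ⟨c, hc⟩ := weakTri_lpull f _ hTr
  have ho := orth_lpull_rpush f U K hK
  exact bijective_comp_of_triangle _ hc T (fun φ => ho T hT φ)
    (fun φ => (Orth.shift_neg_one
      (S := fun N : DCoh.D X => VanishOn N ((f ⁻¹ᵁ U : X.Opens) : Set X))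
      (fun N hN => vanishOn_shift hN 1) ho) T hT φ)

/-- **flat pullback commutes with `RΓ_Z`** -/
theorem rgamma_flat_pullback (K : DCoh.D Y) (hK : DCoh.IsQCohD K) :
    (∃ β : (DCoh.Lpull f).obj ((CxOX.RgammaZ U.ι).obj K) ⟶
        (CxOX.RgammaZ (f ⁻¹ᵁ U).ι).obj ((DCoh.Lpull f).obj K),
        β ≫ (CxOX.RgammaZToId (f ⁻¹ᵁ U).ι).app ((DCoh.Lpull f).obj K) =
          (DCoh.Lpull f).map ((CxOX.RgammaZToId U.ι).app K)) ∧
    ∀ β : (DCoh.Lpull f).obj ((CxOX.RgammaZ U.ι).obj K) ⟶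
        (CxOX.RgammaZ (f ⁻¹ᵁ U).ι).obj ((DCoh.Lpull f).obj K),
        β ≫ (CxOX.RgammaZToId (f ⁻¹ᵁ U).ι).app ((DCoh.Lpull f).obj K) =
          (DCoh.Lpull f).map ((CxOX.RgammaZToId U.ι).app K) → IsIso β := by
  have hN : VanishOn ((DCoh.Lpull f).obj ((CxOX.RgammaZ U.ι).obj K))
      ((f ⁻¹ᵁ U : X.Opens) : Set X) := vanishOn_lpull f U _ (vanishOn_rgamma U K)
  have hR : VanishOn ((CxOX.RgammaZ (f ⁻¹ᵁ U).ι).obj ((DCoh.Lpull f).obj K))
      ((f ⁻¹ᵁ U : X.Opens) : Set X) := vanishOn_rgamma (f ⁻¹ᵁ U) _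
  have b1 := fun T hT => bijective_comp_lpull_rgammaToId f U K hK T hT
  have b2 := fun T hT => bijective_comp_rgammaToId (f ⁻¹ᵁ U) T ((DCoh.Lpull f).obj K) hT
  constructor
  · exact (b2 _ hN).2 _
  · intro β hβ
    obtain ⟨γ, hγ⟩ := (b1 _ hR).2 ((CxOX.RgammaZToId (f ⁻¹ᵁ U).ι).app ((DCoh.Lpull f).obj K))
    have hγ' : γ ≫ (DCoh.Lpull f).map ((CxOX.RgammaZToId U.ι).app K) =
        (CxOX.RgammaZToId (f ⁻¹ᵁ U).ι).app ((DCoh.Lpull f).obj K) := hγ
    refine ⟨γ, ?_, ?_⟩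
    · apply (b1 _ hN).1
      show (β ≫ γ) ≫ _ = 𝟙 _ ≫ _
      rw [Category.assoc, hγ', hβ, Category.id_comp]
    · apply (b2 _ hR).1
      show (γ ≫ β) ≫ _ = 𝟙 _ ≫ _
      rw [Category.assoc, hβ, hγ', Category.id_comp]

end Groth.Agent.Lib.Helper5.BC
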