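import Mathlib
import Groth.Prelude.Def_DualFM
import Groth.Agent.Lib.Helper5.BC.DiagBC
import Groth.Agent.Lib.Helper5.BC.FMConv
import Groth.Agent.Lib.Helper5.FMId.Main
import Groth.Agent.Lib.Helper5.RHomQC.Conserv
import Groth.Agent.Lib.Helper5.Perf.LpullPerf
import Groth.Agent.Lib.Helper5.Perf.CountHomAff

/-!
# Base change of relative Fourier–Mukai equivalence kernels (helper5)
-/
set_option autoImplicit false
set_option linter.unusedSectionVars false
set_option linter.unusedVariables false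
set_option linter.style.haveILetI false
universe u
open CategoryTheory CategoryTheory.Limits AlgebraicGeometry
attribute [local instance] HasDerivedCategory.standard

namespace Groth.Agent.Lib.Helper5.BC

open Groth.Agent.Lib.Helper5.QC Groth.Agent.Lib.Helper5.LpullLib Groth.Agent.Lib.Helper5.FMId
  Groth.Agent.Lib.Helper5.ProjF2 Groth.Agent.Lib.Helper5.RHomQC

section Diag

variable {S S₁ X : Scheme.{u}} (a : X ⟶ S) (g : S₁ ⟶ S)

/-- `Δ_* O_X` is the derived direct image of `O_X[0]` along the diagonal -/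
noncomputable def diagORpushIso [IsSeparated a] :
    FMK.diagO a ≅ (DCoh.Rpush (pullback.diagonal a)).obj (OO X 0) :=
  (diagOIso a).symm ≪≫
    (Groth.Agent.Lib.Helper5.ProjF.rpushQIso (pullback.diagonal a) (OCx X 0)).symm ≪≫
    (DCoh.Rpush (pullback.diagonal a)).mapIso
      ((DerivedCategory.singleFunctorIsoCompQ X.Modules 0).app (Coh.structureModule X)).symm

/-- **`Δ_* O` is compatible with base change** for a flat separated morphism -/
theorem nonempty_diagO_baseChange [Flat a] [IsSeparated a] :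
    Nonempty (FMK.diagO (pullback.snd a g) ≅ (DCoh.Lpull (hMap a a g)).obj (FMK.diagO a)) := by
  have hO : DCoh.IsQCohD (OO X 0) :=
    Groth.Agent.Lib.Helper5.CountHom.isQCohD_of_isPerfect _ (isPerfect_OO 0)
  haveI := isIso_theta_diag a g (OO X 0) hO
  let e1 := asIso ((theta (isPullback_diag a g).w).app (OO X 0))
  exact ⟨diagORpushIso (pullback.snd a g) ≪≫
    (DCoh.Rpush (pullback.diagonal (pullback.snd a g))).mapIso
      (lpullUnitIso (pullback.fst a g)).symm ≪≫ e1.symm ≪≫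
    (DCoh.Lpull (hMap a a g)).mapIso (diagORpushIso a).symm⟩

end Diag

section Main

variable {S S₁ X Y : Scheme.{u}} (a : X ⟶ S) (b : Y ⟶ S) (g : S₁ ⟶ S)

/-- **base change of a relative Fourier–Mukai equivalence kernel** -/
theorem isRelEquivKernel_baseChange [Flat a] [IsSeparated a] [QuasiCompact a] [Flat b]
    [IsSeparated b] [QuasiCompact b]
    (K : CochainComplex (pullback a b).Modules ℤ)
    [DCoh.HasLpull (FMK.p12 a b a)] [DCoh.HasRpush (FMK.p13 a b a)]
    [∀ L : CochainComplex (FMK.T a b a).Modules ℤ, DCoh.HasLTensorCx L]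
    [DCoh.HasLpull (FMK.p12 b a b)] [DCoh.HasRpush (FMK.p13 b a b)]
    [∀ L : CochainComplex (FMK.T b a b).Modules ℤ, DCoh.HasLTensorCx L]
    (hK : FMK.IsRelEquivKernel a b K)
    [DCoh.HasLpull (FMK.p12 (pullback.snd a g) (pullback.snd b g) (pullback.snd a g))]
    [DCoh.HasRpush (FMK.p13 (pullback.snd a g) (pullback.snd b g) (pullback.snd a g))]
    [∀ L : CochainComplex (FMK.T (pullback.snd a g) (pullback.snd b g)
      (pullback.snd a g)).Modules ℤ, DCoh.HasLTensorCx L]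
    [DCoh.HasLpull (FMK.p12 (pullback.snd b g) (pullback.snd a g) (pullback.snd b g))]
    [DCoh.HasRpush (FMK.p13 (pullback.snd b g) (pullback.snd a g) (pullback.snd b g))]
    [∀ L : CochainComplex (FMK.T (pullback.snd b g) (pullback.snd a g)
      (pullback.snd b g)).Modules ℤ, DCoh.HasLTensorCx L]
    (K₁ : CochainComplex (pullback (pullback.snd a g) (pullback.snd b g)).Modules ℤ)
    (hK₁ : Nonempty (DCoh.toD _ K₁ ≅ (DCoh.Lpull (hMap a b g)).obj (DCoh.toD _ K))) :
    FMK.IsRelEquivKernel (pullback.snd a g) (pullback.snd b g) K₁ := by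
  obtain ⟨hKp, K', hK'p, ⟨ed₁⟩, ⟨ed₂⟩⟩ := hK
  obtain ⟨eK₁⟩ := hK₁
  have hKq := Groth.Agent.Lib.Helper5.CountHom.isQCohD_of_isPerfect _ hKp
  have hK'q := Groth.Agent.Lib.Helper5.CountHom.isQCohD_of_isPerfect _ hK'p
  -- the inverse kernel
  let K₁' : CochainComplex (pullback (pullback.snd b g) (pullback.snd a g)).Modules ℤ :=
    DerivedCategory.Q.objPreimage ((DCoh.Lpull (hMap b a g)).obj (DCoh.toD _ K'))
  let eK₁' : DCoh.toD _ K₁' ≅ (DCoh.Lpull (hMap b a g)).obj (DCoh.toD _ K') :=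
    DerivedCategory.Q.objObjPreimageIso _
  refine ⟨Groth.Agent.Lib.Helper5.PerfTri.isPerfect_of_iso eK₁.symm
      (isPerfect_Lpull (hMap a b g) _ hKp), K₁',
    Groth.Agent.Lib.Helper5.PerfTri.isPerfect_of_iso eK₁'.symm
      (isPerfect_Lpull (hMap b a g) _ hK'p), ?_, ?_⟩
  · obtain ⟨e1⟩ := nonempty_diagO_baseChange a g
    obtain ⟨e2⟩ := nonempty_conv_baseChange a b a g K K' hKq hK'q K₁ ⟨eK₁⟩ K₁' ⟨eK₁'⟩
    exact ⟨e1 ≪≫ (DCoh.Lpull (hMap a a g)).mapIso ed₁ ≪≫ e2⟩
  · obtain ⟨e1⟩ := nonempty_diagO_baseChange b g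
    obtain ⟨e2⟩ := nonempty_conv_baseChange b a b g K' K hK'q hKq K₁' ⟨eK₁'⟩ K₁ ⟨eK₁⟩
    exact ⟨e1 ≪≫ (DCoh.Lpull (hMap b b g)).mapIso ed₂ ≪≫ e2⟩

end Main

end Groth.Agent.Lib.Helper5.BC
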