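import Mathlib
import Groth.Prelude.Def_Dual3
import Groth.Agent.Lib.Helper5.BC.FlatLeft
import Groth.Agent.Lib.Helper5.FM2.AbsBC2
import Groth.Agent.Lib.Helper5.QC.LpullQC

/-!
# The comparison `ξ : Rg'_* a' ⟶ a Rg_*` is an isomorphism in the flat cases (helper5)
-/
set_option autoImplicit false
set_option linter.unusedSectionVars false
set_option linter.unusedVariables false
set_option linter.style.haveILetI false
universe u
open CategoryTheory CategoryTheory.Limits AlgebraicGeometry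
attribute [local instance] HasDerivedCategory.standard

namespace Groth.Agent.Lib.Helper5.BC

open Groth.Agent.Lib.Helper5.QC Groth.Agent.Lib.Helper5.AbsBC

variable {X Y X' Y' : Scheme.{u}} {f : X ⟶ Y} {g : Y' ⟶ Y} {f' : X' ⟶ Y'} {g' : X' ⟶ X}

theorem lpullPreservesQCoh (g : Y' ⟶ Y) : Dual3.LpullPreservesQCoh g :=
  fun K hK => isQCohD_Lpull g K hK

/-- the adjunction `Lg^* ⊣ Rg_*` restricted to `D_QCoh` -/
noncomputable def adjLQ (g : Y' ⟶ Y) (hg : DCoh.RpushPreservesQCoh g) :
    Dual3.LpullQ g (lpullPreservesQCoh g) ⊣ DCoh.RpushQ g hg :=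
  Adjunction.mkOfHomEquiv
    { homEquiv := fun K M =>
        { toFun := fun ψ => ObjectProperty.homMk ((adjL g).homEquiv K.obj M.obj ψ.hom)
          invFun := fun ψ => ObjectProperty.homMk (((adjL g).homEquiv K.obj M.obj).symm ψ.hom)
          left_inv := fun ψ => by
            apply ObjectProperty.hom_ext
            exact ((adjL g).homEquiv K.obj M.obj).symm_apply_apply ψ.hom
          right_inv := fun ψ => by
            apply ObjectProperty.hom_ext
            exact ((adjL g).homEquiv K.obj M.obj).apply_symm_apply ψ.hom }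
      homEquiv_naturality_left_symm := by
        intro K' K M φ ψ
        apply ObjectProperty.hom_ext
        exact (adjL g).homEquiv_naturality_left_symm φ.hom ψ.hom
      homEquiv_naturality_right := by
        intro K M M' φ ψ
        apply ObjectProperty.hom_ext
        exact (adjL g).homEquiv_naturality_right φ.hom ψ.hom }

lemma adjLQ_homEquiv_symm_hom (g : Y' ⟶ Y) (hg : DCoh.RpushPreservesQCoh g)
    (K : DCoh.DQCoh Y) (M : DCoh.DQCoh Y') (ψ : K ⟶ (DCoh.RpushQ g hg).obj M) :
    (((adjLQ g hg).homEquiv K M).symm ψ).hom = ((adjL g).homEquiv K.obj M.obj).symm ψ.hom := by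
  simp [adjLQ]

lemma adjLQ_unit_app_hom (g : Y' ⟶ Y) (hg : DCoh.RpushPreservesQCoh g) (K : DCoh.DQCoh Y) :
    ((adjLQ g hg).unit.app K).hom = (adjL g).unit.app K.obj := by
  have h : (adjLQ g hg).unit.app K = (adjLQ g hg).homEquiv K _ (𝟙 _) := by
    rw [Adjunction.homEquiv_unit, CategoryTheory.Functor.map_id]
    exact (Category.comp_id _).symm
  rw [h]
  simp only [adjLQ, Adjunction.mkOfHomEquiv_homEquiv]
  change (adjL g).homEquiv K.obj _ (𝟙 _) = _
  rw [Adjunction.homEquiv_unit, CategoryTheory.Functor.map_id]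
  exact Category.comp_id _

/-- an identification of composite direct images restricted to `D_QCoh` -/
noncomputable def eQ (e₀ : DCoh.Rpush g' ⋙ DCoh.Rpush f ≅ DCoh.Rpush f' ⋙ DCoh.Rpush g)
    (hf : DCoh.RpushPreservesQCoh f) (hf' : DCoh.RpushPreservesQCoh f')
    (hg : DCoh.RpushPreservesQCoh g) (hg' : DCoh.RpushPreservesQCoh g') :
    DCoh.RpushQ g' hg' ⋙ DCoh.RpushQ f hf ≅ DCoh.RpushQ f' hf' ⋙ DCoh.RpushQ g hg :=
  NatIso.ofComponents (fun K => ObjectProperty.isoMk _ (e₀.app K.obj)) (by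
    intro K K' φ
    apply ObjectProperty.hom_ext
    exact e₀.hom.naturality φ.hom)

/-- the abstract base change map on `D_QCoh` is the prelude's base change morphism -/
theorem bcPush_hom (e₀ : DCoh.Rpush g' ⋙ DCoh.Rpush f ≅ DCoh.Rpush f' ⋙ DCoh.Rpush g)
    (hf : DCoh.RpushPreservesQCoh f) (hf' : DCoh.RpushPreservesQCoh f')
    (hg : DCoh.RpushPreservesQCoh g) (hg' : DCoh.RpushPreservesQCoh g') (T : DCoh.DQCoh X) :
    (bcPush (F := DCoh.RpushQ f hf) (F' := DCoh.RpushQ f' hf') (adjLQ g hg) (adjLQ g' hg')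
      (eQ e₀ hf hf' hg hg') T).hom =
      DCoh.baseChangeApp (adjL g) (adjL g') e₀ T.obj := by
  unfold bcPush DCoh.baseChangeApp
  rw [adjLQ_homEquiv_symm_hom, ObjectProperty.FullSubcategory.comp_hom]
  congr 2
  exact congrArg (DCoh.Rpush f).map (adjLQ_unit_app_hom g' hg' T)

theorem quasiCompact_of_compactSpace {X Y : Scheme.{u}} (f : X ⟶ Y) [CompactSpace X]
    [QuasiSeparatedSpace Y] : QuasiCompact f := by
  haveI : QuasiSeparated (terminal.from Y) :=
    (quasiSeparated_iff_quasiSeparatedSpace _).2 ‹_›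
  haveI : QuasiCompact (f ≫ terminal.from Y) := by
    rw [terminalIsTerminal.hom_ext (f ≫ terminal.from Y) (terminal.from X)]
    exact (quasiCompact_iff_compactSpace _).2 ‹_›
  exact QuasiCompact.of_comp f (terminal.from Y)

/-- **`ξ : Rg'_* a' ⟶ a Rg_*` is an isomorphism if `f` or `g` is flat** -/
theorem isIso_xi_of_flat (hsq : IsPullback g' f' f g) [QuasiCompact f] [QuasiSeparated f]
    (hflat : Flat f ∨ Flat g)
    (hf : DCoh.RpushPreservesQCoh f) (hf' : DCoh.RpushPreservesQCoh f')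
    (hg : DCoh.RpushPreservesQCoh g) (hg' : DCoh.RpushPreservesQCoh g')
    (a : DCoh.DQCoh Y ⥤ DCoh.DQCoh X) (a' : DCoh.DQCoh Y' ⥤ DCoh.DQCoh X')
    (adj : DCoh.RpushQ f hf ⊣ a) (adj' : DCoh.RpushQ f' hf' ⊣ a') (M : DCoh.DQCoh Y') :
    IsIso (Dual3.xi adj adj' (eQ (eConj hsq.w (adjL g) (adjL g')) hf hf' hg hg') M) := by
  change IsIso (xi (G := DCoh.RpushQ g hg) (G' := DCoh.RpushQ g' hg') adj adj'
    (eQ (eConj hsq.w (adjL g) (adjL g')) hf hf' hg hg') M)
  refine isIso_xi_of_isIso_bcPush adj adj' (adjLQ g hg) (adjLQ g' hg') _ (fun T => ?_) M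
  rw [← ObjectProperty.isIso_hom_iff, bcPush_hom, baseChangeApp_eq_theta]
  rcases hflat with h | h
  · haveI := h
    exact isIso_theta_of_flat_left hsq T.obj T.property
  · haveI := h
    exact isIso_theta_of_flat hsq T.obj T.property

end Groth.Agent.Lib.Helper5.BC
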